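import Groth.Agent.ShStab.K831.Flags

/-!
# `K991.Ten.StmtOpt`: existence and uniqueness of the optimal weighted flag of a tensor (Kempf), over any field
-/

set_option autoImplicit false
set_option linter.unusedSectionVars false
universe u

namespace Groth.Agent.ShStab.K831.Kempf

open K865.TenAct K991.Ten Module Matrix
open Groth.Agent.ShStab.K831.MinNorm Groth.Agent.ShStab.K831.Opt Groth.Agent.ShStab.K831.Flags
open scoped BigOperators

section

variable {A R : Type*} [Fintype A] [Fintype R] [DecidableEq A] [DecidableEq R] {k : Type*} [Field k]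

open Classical in
/-- The support of a tensor in the coordinates `g`. -/
noncomputable def Sup (s : (A → R) → k) (g : Matrix R R k) : Finset (A → R) :=
  Finset.univ.filter fun J => act g s J ≠ 0

theorem mem_Sup {s : (A → R) → k} {g : Matrix R R k} {J : A → R} : J ∈ Sup s g ↔ act g s J ≠ 0 := by
  simp [Sup]

theorem Sup_nonempty {s : (A → R) → k} (hs : s ≠ 0) {g : Matrix R R k} (hg : IsUnit g.det) : (Sup s g).Nonempty := by
  by_contra hc
  apply hs
  have h1 : act g s = 0 := by
    funext J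
    by_contra h
    exact hc ⟨J, mem_Sup.2 h⟩
  rw [← act_one s, ← Matrix.nonsing_inv_mul g hg, act_mul, h1, act_zero]

theorem pS_nonneg (S : Finset (A → R)) (r : R) : 0 ≤ pS S r := by
  rw [pS, Finset.sum_apply]
  refine Finset.sum_nonneg fun J _ => ?_
  rw [Pi.smul_apply, smul_eq_mul]
  refine mul_nonneg ?_ (Nat.cast_nonneg _)
  by_cases hS : S.Nonempty
  · exact (lamS_spec S hS).1 J
  · rw [lamS, dif_neg hS]
    exact le_rfl

/-- Common denominators. -/
theorem exists_den (p : R → ℚ) (hp : ∀ r, 0 ≤ p r) : ∃ (M : ℕ) (n : R → ℕ), 0 < M ∧ ∀ r, (n r : ℚ) = M * p r := by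
  refine ⟨∏ r, (p r).den, fun r => (p r).num.toNat * ∏ r' ∈ Finset.univ.erase r, (p r').den,
    Finset.prod_pos fun r _ => (p r).pos, fun r => ?_⟩
  have h1 : (((p r).num.toNat : ℤ) : ℚ) = ((p r).num : ℚ) := by
    rw [Int.toNat_of_nonneg (Rat.num_nonneg.2 (hp r))]
  have h2 : ((p r).num : ℚ) = (p r).den * p r := by
    rw [mul_comm]
    exact (Rat.mul_den_eq_num (p r)).symm
  rw [← Finset.mul_prod_erase Finset.univ (fun r => (p r).den) (Finset.mem_univ r)]
  push_cast at h1 ⊢
  rw [h1, h2]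
  ring

end

theorem stmtOpt : K991.Ten.StmtOpt.{u} := by
  intro k _ R A I _ _ _ _ _ b0 s hs
  classical
  -- a matrix of maximal norm
  let T : Set (Finset (A → R)) := {S | ∃ g : Matrix R R k, IsBlk b0 g ∧ IsUnit g.det ∧ S = Sup s g}
  have hT : T.Nonempty := ⟨_, 1, IsBlk.one b0, by rw [Matrix.det_one]; exact isUnit_one, rfl⟩
  obtain ⟨S0, ⟨g, hgb, hgu, hS0⟩, hmax⟩ := Set.exists_max_image T (fun S => ip (pS S) (pS S)) (Set.toFinite T) hT
  have hmax' : ∀ g' : Matrix R R k, IsBlk b0 g' → IsUnit g'.det →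
      ip (pS (Sup s g')) (pS (Sup s g')) ≤ ip (pS S0) (pS S0) := fun g' h1 h2 => hmax _ ⟨g', h1, h2, rfl⟩
  have hS0ne : S0.Nonempty := hS0 ▸ Sup_nonempty hs hgu
  set p : R → ℚ := pS S0 with hp
  have hhalf : ∀ J, act g s J ≠ 0 → ip p p ≤ ip (cq J) p := fun J hJ =>
    (lamS_spec S0 hS0ne).2.2.2 J (hS0 ▸ mem_Sup.2 hJ)
  obtain ⟨M, n, hM, hn⟩ := exists_den p (fun r => pS_nonneg S0 r)
  have hM' : (0 : ℚ) < M := Nat.cast_pos.2 hM
  let w : R → ℕ := fun r => M * n r
  let c : ℕ := ∑ r, n r * n r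
  have hN : (0 : ℚ) < ((M * M : ℕ) : ℚ) := by
    push_cast
    exact mul_pos hM' hM'
  have hw : ∀ r, (w r : ℚ) = ((M * M : ℕ) : ℚ) * p r := fun r => by
    simp only [w]
    push_cast
    rw [hn]
    ring
  have hc : (c : ℚ) = ((M * M : ℕ) : ℚ) * ip p p := by
    simp only [c, ip]
    push_cast
    rw [Finset.mul_sum]
    refine Finset.sum_congr rfl fun r _ => ?_
    rw [hn]
    ring
  have hwt : ∀ J : A → R, (wt w J : ℚ) = ((M * M : ℕ) : ℚ) * ip (cq J) p := fun J => by
    rw [ip_cq, wt, Finset.mul_sum]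
    push_cast
    refine Finset.sum_congr rfl fun a _ => ?_
    have := hw (J a)
    push_cast at this
    exact this
  have hle : ∀ J : A → R, (c ≤ wt w J ↔ ip p p ≤ ip (cq J) p) := fun J => by
    rw [← Nat.cast_le (α := ℚ), hc, hwt]
    exact mul_le_mul_iff_right₀ hN
  have heq : ∀ J : A → R, (wt w J = c ↔ ip (cq J) p = ip p p) := fun J => by
    rw [← Nat.cast_inj (R := ℚ), hc, hwt]
    exact mul_right_inj' hN.ne'
  refine ⟨M * M, w, c, g, Nat.mul_pos hM hM, hgb, hgu, fun J hJ => (hle J).2 (hhalf J hJ), ?_, ?_⟩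
  · -- (K')
    intro h hh hhu
    have hhb : IsBlk b0 h := fun i j hij => hh i j fun he => hij (Prod.ext_iff.1 he).1
    have hu' : IsUnit (h * g).det := by
      rw [Matrix.det_mul]
      exact hhu.mul hgu
    set S' := Sup s (h * g) with hS'
    have hS'ne : S'.Nonempty := Sup_nonempty hs hu'
    have hhp : ∀ r r', h r r' ≠ 0 → p r' ≤ p r := by
      intro r r' hr
      have h1 : w r = w r' := by
        by_contra hc
        exact hr (hh r r' fun he => hc (Prod.ext_iff.1 he).2)
      have h2 : ((M * M : ℕ) : ℚ) * p r' = ((M * M : ℕ) : ℚ) * p r := by rw [← hw, ← hw, h1]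
      exact (mul_left_cancel₀ hN.ne' h2).le
    have h3 : ∀ J ∈ S', ip p p ≤ ip (cq J) p := by
      intro J hJ
      rw [ip_cq]
      refine le_of_act_ne_zero (q := h) (t := act g s) hhp (fun J' hJ' => ?_) J ?_
      · rw [← ip_cq]
        exact hhalf J' hJ'
      · rw [← act_mul]
        exact mem_Sup.1 hJ
    have h4 : ip p p ≤ ip (pS S') p := le_ip_pS S' hS'ne p _ h3
    have h5 := hmax' (h * g) (hhb.mul hgb) hu'
    have h6 : pS S' - p = 0 := by
      apply ip_self_eq_zero
      refine le_antisymm ?_ (ip_self_nonneg _)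
      rw [ip_sub_left, ip_sub_right, ip_sub_right, ip_comm p (pS S')]
      linarith
    have h7 : pS S' = p := sub_eq_zero.1 h6
    refine ⟨fun J => ((M * M : ℕ) : ℚ) * lamS S' J, fun J => mul_nonneg hN.le ((lamS_spec S' hS'ne).1 J), ?_, ?_, ?_⟩
    · intro J hJ
      rw [← part_act hh, ← act_mul] at hJ
      have h8 : lamS S' J = 0 := by
        by_contra h9
        have h10 := eq_of_lamS_ne_zero S' hS'ne p (ip p p) h3 (by rw [h7]) h9
        have h11 : J ∈ S' := by
          by_contra h12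
          exact h9 ((lamS_spec S' hS'ne).2.1 J h12)
        rw [part, if_pos ((heq J).2 h10)] at hJ
        exact mem_Sup.1 h11 hJ
      change ((M * M : ℕ) : ℚ) * lamS S' J = 0
      rw [h8, mul_zero]
    · rw [← Finset.mul_sum, (lamS_spec S' hS'ne).2.2.1, mul_one]
    · intro j
      rw [hw, ← h7, pS, Finset.sum_apply, Finset.mul_sum]
      refine Finset.sum_congr rfl fun J _ => ?_
      rw [Pi.smul_apply, smul_eq_mul, cq, mul_assoc]
  · -- uniqueness
    intro g' hgb' hgu' hs'
    let wq : R → ℚ := fun r => (w r : ℚ)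
    obtain ⟨g2, hgu2, l, l', hgb2, h1, h2⟩ := exists_common_mat b0 (filM g hgu wq) (filM g' hgu' wq)
      (fun x i => filM_pr b0 hgu hgb wq i x) (fun x i => filM_pr b0 hgu' hgb' wq i x)
    have hwl : ip wq wq = ip l l := norm_eq hgu hgu2 h1
    have hwl' : ip wq wq = ip l' l' := norm_eq hgu' hgu2 h2
    have hww : ip wq wq = ((M * M : ℕ) : ℚ) * c := by
      rw [hc, ip, ip, Finset.mul_sum, Finset.mul_sum]
      refine Finset.sum_congr rfl fun r _ => ?_
      change (w r : ℚ) * (w r : ℚ) = _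
      rw [hw]
      ring
    have hact : ∀ (g₁ : Matrix R R k) (_ : IsUnit g₁.det), act g2 s = act (g2 * g₁⁻¹) (act g₁ s) := by
      intro g₁ h
      rw [← act_mul, Matrix.mul_assoc, Matrix.nonsing_inv_mul _ h, Matrix.mul_one]
    have hsup : ∀ J ∈ Sup s g2, (c : ℚ) ≤ ip (cq J) l := by
      intro J hJ
      rw [ip_cq]
      refine le_of_act_ne_zero (q := g2 * g⁻¹) (t := act g s) (w := wq) (filM_le g g2 hgu hgu2 wq l h1)
        (fun J' hJ' => ?_) J ?_
      · have h3 := (hle J').2 (hhalf J' hJ')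
        have h4 : ((c : ℕ) : ℚ) ≤ (wt w J' : ℚ) := Nat.cast_le.2 h3
        rw [wt] at h4
        push_cast at h4
        exact h4
      · rw [← hact g hgu]
        exact mem_Sup.1 hJ
    have hsup' : ∀ J ∈ Sup s g2, (c : ℚ) ≤ ip (cq J) l' := by
      intro J hJ
      rw [ip_cq]
      refine le_of_act_ne_zero (q := g2 * g'⁻¹) (t := act g' s) (w := wq) (filM_le g' g2 hgu' hgu2 wq l' h2)
        (fun J' hJ' => ?_) J ?_
      · have h4 : ((c : ℕ) : ℚ) ≤ (wt w J' : ℚ) := Nat.cast_le.2 (hs' J' hJ')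
        rw [wt] at h4
        push_cast at h4
        exact h4
      · rw [← hact g' hgu']
        exact mem_Sup.1 hJ
    have hne2 := Sup_nonempty hs hgu2
    have h3 := le_ip_pS _ hne2 l _ hsup
    have h4 := le_ip_pS _ hne2 l' _ hsup'
    have h5 := hmax' g2 hgb2 hgu2
    set p2 := pS (Sup s g2) with hp2
    -- `l = N p2 = l'`
    have key : ∀ m : R → ℚ, ip wq wq = ip m m → (c : ℚ) ≤ ip p2 m → m = ((M * M : ℕ) : ℚ) • p2 := by
      intro m hm hcm
      rw [← sub_eq_zero]
      apply ip_self_eq_zero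
      refine le_antisymm ?_ (ip_self_nonneg _)
      rw [ip_sub_left, ip_sub_right, ip_sub_right, ip_smul_left, ip_smul_left, ip_smul_right, ip_smul_right,
        ip_comm m p2, ← hm, hww]
      have h6 := mul_le_mul_of_nonneg_left hcm hN.le
      have h7 : ((M * M : ℕ) : ℚ) * (((M * M : ℕ) : ℚ) * ip p2 p2) ≤ ((M * M : ℕ) : ℚ) * c := by
        rw [hc]
        exact mul_le_mul_of_nonneg_left (mul_le_mul_of_nonneg_left h5 hN.le) hN.le
      linarith
    have hll : l = l' := (key l hwl h3).trans (key l' hwl' h4).symm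
    intro i j hij
    by_contra hz
    have h6 : filM g hgu wq = filM g' hgu' wq := by rw [h1, h2, hll]
    have h7 := filM_le g g' hgu hgu' wq wq h6 i j hz
    exact absurd (Nat.cast_le.1 h7) (not_le.2 hij)

end Groth.Agent.ShStab.K831.Kempf
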