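import Groth.Agent.ShStab.K831.DualFam

/-!
# The tensor product theorem for pairings (`K991.FamT.StmtMT`) from the statement on multilinear forms
-/

set_option autoImplicit false
set_option linter.unusedSectionVars false
universe u
open CategoryTheory CategoryTheory.Limits AlgebraicGeometry Opposite TopologicalSpace Module

namespace Groth.Agent.ShStab.K831.N4b

open K849.DvrLat K849.CstTor K849.CstDeg K849.Fam K752.Semi K752.FamPair K752.FamFrob K752.FamDual K752.Ranks
open K991.FamT Groth.Agent.ShStab.K831.TwMk Groth.Agent.ShStab.K831.DualFam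

attribute [local instance 50] modAt

section line

variable {R : Type*} [CommRing R] [IsDomain R] {K : Type*} [Field K] [Algebra R K]

/-- The basis `t` of `K`. -/
noncomputable def lb {K : Type*} [Field K] (t : K) (ht : t ≠ 0) : Basis (Fin 1) K K :=
  (Basis.singleton (Fin 1) K).unitsSMul fun _ => Units.mk0 t ht

theorem lb_apply {K : Type*} [Field K] (t : K) (ht : t ≠ 0) (i : Fin 1) : lb t ht i = t := by
  rw [lb, Basis.unitsSMul_apply, Basis.singleton_apply]
  exact mul_one t

theorem lb_repr {K : Type*} [Field K] (t : K) (ht : t ≠ 0) (x : K) (i : Fin 1) : (lb t ht).repr x i = x * t⁻¹ := by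
  have h1 : x = (x * t⁻¹) • lb t ht i := by
    rw [lb_apply, smul_eq_mul, mul_assoc, inv_mul_cancel₀ ht, mul_one]
  conv_lhs => rw [h1]
  rw [map_smul, Basis.repr_self, Finsupp.smul_apply, Finsupp.single_eq_same, smul_eq_mul, mul_one]

theorem det_mul_det' {K V ι : Type*} [Field K] [AddCommGroup V] [Module K V] [Fintype ι] [DecidableEq ι]
    (b c : Basis ι K V) (v : ι → V) : b.det c * c.det v = b.det v := by
  rw [Basis.det_apply, Basis.det_apply, Basis.det_apply, ← Matrix.det_mul, Basis.toMatrix_mul_toMatrix]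

theorem lb_det {K : Type*} [Field K] (t t' : K) (ht : t ≠ 0) (ht' : t' ≠ 0) : (lb t ht).det (lb t' ht') = t' * t⁻¹ := by
  rw [Basis.det_apply, Matrix.det_fin_one, Basis.toMatrix_apply, lb_repr, lb_apply]

end line

variable {X : Scheme.{u}} [IsIntegral X] [IsNoetherian X] [RegOne X] {δ : C1 X → ℚ}
  {Q : Type u} [AddCommGroup Q] [Module (X.presheaf.stalk (genericPoint X)) Q]

/-- The line of the multipliers of the determinant. -/
noncomputable def L3 {q : ℕ} (ΛQ : LFam X Q) (e : Basis (Fin q) X.functionField Q) : LFam X X.functionField := fun y =>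
  { carrier := {x | ∀ v : Fin q → Q, (∀ i, v i ∈ ΛQ y) →
      ∃ r : X.presheaf.stalk y.1, algebraMap _ X.functionField r = x * e.det v}
    add_mem' := fun {a b} ha hb v hv => by
      obtain ⟨r, hr⟩ := ha v hv
      obtain ⟨s, hs⟩ := hb v hv
      exact ⟨r + s, by rw [map_add, hr, hs, add_mul]⟩
    zero_mem' := fun v _ => ⟨0, by rw [map_zero, zero_mul]⟩
    smul_mem' := fun r x hx v hv => by
      obtain ⟨s, hs⟩ := hx v hv
      refine ⟨r * s, ?_⟩
      rw [map_mul, hs, ← mul_assoc, ← algebraMap_smul X.functionField r x]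
      rfl }

theorem mem_L3 {q : ℕ} {ΛQ : LFam X Q} {e : Basis (Fin q) X.functionField Q} {y : C1 X} {x : X.functionField} :
    x ∈ L3 ΛQ e y ↔ ∀ v : Fin q → Q, (∀ i, v i ∈ ΛQ y) →
      ∃ r : X.presheaf.stalk y.1, algebraMap _ X.functionField r = x * e.det v := Iff.rfl

theorem L3_sp {q : ℕ} {ΛQ : LFam X Q} (e : Basis (Fin q) X.functionField Q) {y : C1 X}
    {c : Basis (Fin q) X.functionField Q} (h : ΛQ y = sp (X.presheaf.stalk y.1) c) :
    L3 ΛQ e y = sp (X.presheaf.stalk y.1) (lb (e.det c)⁻¹ (inv_ne_zero (det_ne_zero e c))) := by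
  ext x
  rw [mem_L3, mem_sp]
  constructor
  · intro hx i
    rw [lb_repr, inv_inv]
    refine hx c fun i => ?_
    rw [h]
    exact Submodule.subset_span ⟨i, rfl⟩
  · intro hx v hv
    obtain ⟨r, hr⟩ := hx 0
    rw [lb_repr, inv_inv] at hr
    have h1 : ∀ i, ∀ j, ∃ s : X.presheaf.stalk y.1, algebraMap _ X.functionField s = c.repr (v i) j := by
      intro i
      have h2 := hv i
      rw [h, mem_sp] at h2
      exact h2
    choose s hs using h1
    have h2 : c.det v = algebraMap _ X.functionField (Matrix.of fun j i => s i j).det := by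
      rw [Basis.det_apply, RingHom.map_det]
      congr 1
      ext i j
      rw [RingHom.mapMatrix_apply, Matrix.map_apply, Matrix.of_apply, hs, Basis.toMatrix_apply]
    refine ⟨r * (Matrix.of fun j i => s i j).det, ?_⟩
    rw [map_mul, hr, ← h2, mul_assoc]
    congr 1
    exact det_mul_det' e c v

theorem fam_L3 {q : ℕ} {ΛQ : LFam X Q} (h : IsFam ΛQ) (e : Basis (Fin q) X.functionField Q) : IsFam (L3 ΛQ e) := by
  refine IsFam.of_basis (fun y => ?_) (lb (1 : X.functionField) one_ne_zero) ?_
  · obtain ⟨c, hc⟩ := (h.lat y).exists_basis _ e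
    rw [L3_sp e hc]
    exact isLat_sp (X.presheaf.stalk y.1) X.functionField _
  · refine (h.fin' e).subset fun y hy h0 => hy ?_
    rw [L3_sp e h0]
    congr 2
    rw [Basis.det_self, inv_one]

/-- The degree of the line of multipliers. -/
theorem Deg_L3 (hδ : IsPrin δ) {q : ℕ} {ΛQ : LFam X Q} (h : IsFam ΛQ) (e : Basis (Fin q) X.functionField Q) :
    Deg δ (L3 ΛQ e) = - Deg δ ΛQ := by
  rw [Deg_eq hδ (fam_L3 h e) (lb (1 : X.functionField) one_ne_zero), Deg_eq hδ h e, degB, degB, ← finsum_neg_distrib]
  refine finsum_congr fun y => ?_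
  obtain ⟨c, hc⟩ := (h.lat y).exists_basis _ e
  rw [L3_sp e hc, hc, idx_sp, idx_sp, lb_det, inv_one, mul_one, ordK_inv]
  push_cast
  ring

variable {A B M : Type u} [AddCommGroup A] [Module (X.presheaf.stalk (genericPoint X)) A]
  [AddCommGroup B] [Module (X.presheaf.stalk (genericPoint X)) B]
  [AddCommGroup M] [Module (X.presheaf.stalk (genericPoint X)) M]

/-- The three families. -/
noncomputable def Λ3 {D : Type u} [AddCommGroup D] [Module (X.presheaf.stalk (genericPoint X)) D]
    (ΛA : LFam X A) (ΛD : LFam X D) (Λc : LFam X X.functionField) :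
    ∀ i : I3, LFam X (VV A D X.functionField i)
  | .a => ΛA
  | .b => ΛD
  | .c => Λc

instance instFin3 {D : Type u} [AddCommGroup D] [Module (X.presheaf.stalk (genericPoint X)) D]
    [Module.Finite X.functionField A] [Module.Finite X.functionField D] :
    ∀ i : I3, Module.Finite X.functionField (VV A D X.functionField i)
  | .a => inferInstanceAs (Module.Finite X.functionField A)
  | .b => inferInstanceAs (Module.Finite X.functionField D)
  | .c => inferInstanceAs (Module.Finite X.functionField X.functionField)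

/-- **The tensor product theorem for pairings**, from the statement on multilinear forms. -/
theorem stmtMT (X : Scheme.{u}) [IsIntegral X] [IsNoetherian X] [RegOne X] (p : ℕ) [Fact p.Prime]
    [CharP X.functionField p] (h : StmtForm X p) : StmtMT X p := by
  intro δ hδ h0 A B M _ _ _ _ _ _ _ _ _ ΛA ΛB ΛM hA hB hM sA sB φ hφ hint
  let Q : Submodule X.functionField M := imQ φ
  have hQ : ∀ a q, φ a q ∈ Q := fun a q => Submodule.subset_span ⟨a, q, rfl⟩
  let e : Basis (Fin (finrank X.functionField Q)) X.functionField Q := Module.finBasis _ _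
  have hΛQ : IsFam (sub ΛM Q) := fam_sub hM Q
  have key := h δ hδ h0 I3 (VV A (Dl X B) X.functionField) (Λ3 ΛA (dual ΛB) (L3 (sub ΛM Q) e))
    (fun i => match i with
      | .a => hA
      | .b => hB.dual (Module.finBasis X.functionField B)
      | .c => fam_L3 hΛQ e)
    (fun i => match i with
      | .a => sA
      | .b => Strong_dual hδ h0 hB sB
      | .c => Strong_line hδ (fam_L3 hΛQ e) (lb (1 : X.functionField) one_ne_zero))
    (Sl (finrank X.functionField Q)) c0 (tf φ Q hQ e) (tf_ne_zero φ Q hQ e rfl)
    (fun y v hv => hv (.inr (.inr ())) (ar φ Q hQ (pa v) (pb v)) fun i =>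
      hint y _ (hv (.inl i)) _ (hv (.inr (.inl i))))
  rw [Fintype.sum_sum_type, Fintype.sum_sum_type] at key
  have key2 : (finrank X.functionField Q : ℚ) * (Deg δ ΛA / (finrank X.functionField A : ℚ)) +
      ((finrank X.functionField Q : ℚ) * (Deg δ (dual ΛB) / (finrank X.functionField (Dl X B) : ℚ)) +
        Deg δ (L3 (sub ΛM Q) e) / (finrank X.functionField X.functionField : ℚ)) ≤ 0 := by
    refine le_of_eq_of_le ?_ key
    have hs : ∀ x : ℚ, (finrank X.functionField Q : ℚ) * x = ∑ _a : Fin (finrank X.functionField Q), x := fun x => by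
      rw [Finset.sum_const, Finset.card_univ, Fintype.card_fin, nsmul_eq_mul]
    rw [hs, hs]
    congr 1
    congr 1
    exact (Fintype.sum_unique (fun _ : Unit => Deg δ (L3 (sub ΛM Q) e) /
      (finrank X.functionField X.functionField : ℚ))).symm
  rw [Deg_L3 hδ hΛQ e, finrank_Dl, Deg_dual hδ hB (Module.finBasis X.functionField B), finrank_self, Nat.cast_one,
    div_one] at key2
  have ha : (0 : ℚ) < finrank X.functionField A := by
    rw [Nat.cast_pos, Nat.pos_iff_ne_zero]
    intro h1
    have h2 : Subsingleton A := Module.finrank_zero_iff.1 h1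
    refine hφ (LinearMap.ext fun a => ?_)
    rw [Subsingleton.elim a 0, map_zero, map_zero]
  have hb : (0 : ℚ) < finrank X.functionField B := by
    rw [Nat.cast_pos, Nat.pos_iff_ne_zero]
    intro h1
    have h1' : finrank X.functionField (Dl X B) = 0 := by rw [finrank_Dl, h1]
    have h2 : Subsingleton (Dl X B) := Module.finrank_zero_iff.1 h1'
    refine hφ (LinearMap.ext fun a => LinearMap.ext fun q => ?_)
    rw [Subsingleton.elim q 0, map_zero, map_zero]
  have h3 := mul_le_mul_of_nonneg_left key2 (mul_pos ha hb).le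
  have h4 : (finrank X.functionField A : ℚ) * finrank X.functionField B *
      ((finrank X.functionField Q : ℚ) * (Deg δ ΛA / (finrank X.functionField A : ℚ)) +
      ((finrank X.functionField Q : ℚ) * (-Deg δ ΛB / (finrank X.functionField B : ℚ)) + -Deg δ (sub ΛM Q))) =
      (finrank X.functionField Q : ℚ) * ((finrank X.functionField B : ℚ) * Deg δ ΛA -
        finrank X.functionField A * Deg δ ΛB) - finrank X.functionField A * finrank X.functionField B * Deg δ (sub ΛM Q) := by
    field_simp
    ring
  rw [h4, mul_zero] at h3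
  linarith

end Groth.Agent.ShStab.K831.N4b
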