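import Groth.Agent.ShStab.K831.Val
import Mathlib.LinearAlgebra.Determinant

/-!
# Degrees of subspaces with respect to a filtration; echelon bases; weighted bases
-/

set_option autoImplicit false
universe u v w

open Module

namespace Groth.Agent.ShStab.K831

theorem exists_perm {F : Type*} [Field F] {ι : Type*} [Fintype ι] [DecidableEq ι] (M : Matrix ι ι F)
    (h : M.det ≠ 0) : ∃ σ : Equiv.Perm ι, ∀ i, M (σ i) i ≠ 0 := by
  by_contra hc
  push Not at hc
  apply h
  rw [Matrix.det_apply]
  apply Finset.sum_eq_zero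
  intro σ _
  obtain ⟨i, hi⟩ := hc σ
  have h1 : ∏ i, M (σ i) i = 0 := Finset.prod_eq_zero (Finset.mem_univ i) hi
  exact (congrArg (fun t => Equiv.Perm.sign σ • t) h1).trans (smul_zero _)

namespace Fil

variable {F : Type u} {V : Type v} [Field F] [AddCommGroup V] [Module F V] (φ ψ : Fil F V)

theorem val_le {x y : V} (hy : y ≠ 0) (h : φ.v x ≤ φ.v y) : φ.val x ≤ φ.val y := by
  have hx : x ≠ 0 := by
    rintro rfl
    rw [φ.v_zero, top_le_iff] at h
    exact φ.ne_top y hy h
  rw [← φ.coe_val hx, ← φ.coe_val hy] at h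
  exact WithTop.coe_le_coe.1 h

/-- Comparison of a linearly independent family with an adapted one: the permutation. -/
theorem IsAd.exists_perm {ι : Type*} [Fintype ι] {b : ι → V} (hb : φ.IsAd b) (hb0 : ∀ i, b i ≠ 0) {c : ι → V}
    (hc : LinearIndependent F c) (hcb : ∀ i, c i ∈ Submodule.span F (Set.range b)) :
    ∃ σ : Equiv.Perm ι, ∀ i, φ.v (c i) ≤ φ.v (b (σ i)) := by
  classical
  have hli := hb.linearIndependent φ hb0
  let B := Basis.span hli
  let c' : ι → Submodule.span F (Set.range b) := fun i => ⟨c i, hcb i⟩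
  have hc' : LinearIndependent F c' := by
    rw [← LinearMap.linearIndependent_iff_of_injOn (Submodule.subtype _) (Submodule.injective_subtype _).injOn]
    exact hc
  have hcard : Fintype.card ι = finrank F (Submodule.span F (Set.range b)) := (finrank_eq_card_basis B).symm
  have : FiniteDimensional F (Submodule.span F (Set.range b)) := B.finiteDimensional_of_finite
  obtain h1 | h1 := isEmpty_or_nonempty ι
  · exact ⟨Equiv.refl _, fun i => isEmptyElim i⟩
  let C := basisOfLinearIndependentOfCardEqFinrank hc' hcard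
  have hdet : (B.toMatrix c').det ≠ 0 := by
    have h2 : c' = C := by simp [C]
    rw [h2]
    have h3 := B.isUnit_det C
    rw [Basis.det_apply] at h3
    exact h3.ne_zero
  obtain ⟨σ, hσ⟩ := K831.exists_perm _ hdet
  refine ⟨σ, fun i => ?_⟩
  have h4 : c i = ∑ j, (B.repr (c' i)) j • b j := by
    have h5 := congrArg (Submodule.subtype _) (B.sum_repr (c' i))
    rw [map_sum] at h5
    simp only [map_smul, Submodule.subtype_apply, B, Basis.span_apply] at h5
    exact h5.symm
  rw [h4]
  exact hb _ _ (hσ i)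

theorem IsAd.sum_le {ι : Type*} [Fintype ι] {b : ι → V} (hb : φ.IsAd b) (hb0 : ∀ i, b i ≠ 0) {c : ι → V}
    (hc : LinearIndependent F c) (hcb : ∀ i, c i ∈ Submodule.span F (Set.range b)) :
    ∑ i, φ.val (c i) ≤ ∑ i, φ.val (b i) := by
  obtain ⟨σ, hσ⟩ := IsAd.exists_perm φ hb hb0 hc hcb
  rw [← Equiv.sum_comp σ fun i => φ.val (b i)]
  exact Finset.sum_le_sum fun i _ => φ.val_le (hb0 _) (hσ i)

/-- Functions of the jumps are independent of the adapted basis. -/
theorem IsAd.sum_eq {ι κ : Type*} [Fintype ι] [Fintype κ] {b : ι → V} {c : κ → V} (hb : φ.IsAd b) (hb0 : ∀ i, b i ≠ 0)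
    (hc : φ.IsAd c) (hc0 : ∀ i, c i ≠ 0) (h : Submodule.span F (Set.range b) = Submodule.span F (Set.range c))
    (g : ℚ → ℚ) : ∑ i, g (φ.val (b i)) = ∑ i, g (φ.val (c i)) := by
  classical
  have hbl := hb.linearIndependent φ hb0
  have hcl := hc.linearIndependent φ hc0
  have hcard : Fintype.card ι = Fintype.card κ := by
    rw [← finrank_eq_card_basis (Basis.span hbl), ← finrank_eq_card_basis (Basis.span hcl), h]
  let e : κ ≃ ι := Fintype.equivOfCardEq hcard.symm
  have hr : Set.range (b ∘ e) = Set.range b := by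
    rw [Set.range_comp, e.surjective.range_eq, Set.image_univ]
  have hbe := hb.comp φ e
  obtain ⟨σ, hσ⟩ := IsAd.exists_perm φ hbe (fun i => hb0 _) hcl fun i => by
    rw [hr, h]
    exact Submodule.subset_span ⟨i, rfl⟩
  have h1 : ∑ i, φ.val (c i) ≥ ∑ i, φ.val ((b ∘ e) i) := by
    refine IsAd.sum_le φ hc hc0 (hbe.linearIndependent φ fun i => hb0 _) fun i => ?_
    rw [← h]
    exact Submodule.subset_span ⟨_, rfl⟩
  rw [ge_iff_le, ← Equiv.sum_comp σ] at h1
  have h2 : ∀ i, φ.val (c i) ≤ φ.val ((b ∘ e) (σ i)) := fun i => φ.val_le (hb0 _) (hσ i)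
  have h3 : ∀ i ∈ Finset.univ, φ.val (c i) = φ.val ((b ∘ e) (σ i)) :=
    (Finset.sum_eq_sum_iff_of_le fun i _ => h2 i).1 (le_antisymm (Finset.sum_le_sum fun i _ => h2 i) h1)
  rw [← Equiv.sum_comp e, ← Equiv.sum_comp σ]
  exact Finset.sum_congr rfl fun i hi => by rw [h3 i hi]; rfl

/-- The sum of `g` over the jumps on a subspace. -/
noncomputable def jsum (g : ℚ → ℚ) (H : Submodule F V) [FiniteDimensional F H] : ℚ :=
  ∑ i, g (φ.val ((exists_common φ φ _ H rfl).choose i))

theorem jsum_eq (g : ℚ → ℚ) (H : Submodule F V) [FiniteDimensional F H] {ι : Type*} [Fintype ι] {b : ι → V}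
    (hb : φ.IsAd b) (hb0 : ∀ i, b i ≠ 0) (h : Submodule.span F (Set.range b) = H) :
    φ.jsum g H = ∑ i, g (φ.val (b i)) := by
  have h1 := (exists_common φ φ _ H rfl).choose_spec
  exact IsAd.sum_eq φ h1.2.2.1 h1.2.1 hb hb0 (h1.1.trans h.symm) g

/-- The degree of a subspace. -/
noncomputable def deg (H : Submodule F V) [FiniteDimensional F H] : ℚ := φ.jsum id H

theorem deg_eq (H : Submodule F V) [FiniteDimensional F H] {ι : Type*} [Fintype ι] {b : ι → V}
    (hb : φ.IsAd b) (hb0 : ∀ i, b i ≠ 0) (h : Submodule.span F (Set.range b) = H) :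
    φ.deg H = ∑ i, φ.val (b i) := φ.jsum_eq id H hb hb0 h

theorem le_deg (H : Submodule F V) [FiniteDimensional F H] {ι : Type*} [Fintype ι] {c : ι → V}
    (hc : LinearIndependent F c) (h : Submodule.span F (Set.range c) = H) :
    ∑ i, φ.val (c i) ≤ φ.deg H := by
  obtain ⟨b, hb, hb0, hbφ, -⟩ := exists_common φ φ _ H rfl
  have hcard : finrank F H = Fintype.card ι := by
    rw [← finrank_eq_card_basis (Basis.span hc), h]
  let e : Fin (finrank F H) ≃ ι := Fintype.equivOfCardEq (by rw [Fintype.card_fin, hcard])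
  rw [φ.deg_eq H hbφ hb0 hb, ← Equiv.sum_comp e]
  have h1 : LinearIndependent F (c ∘ e) := hc.comp _ e.injective
  refine IsAd.sum_le φ hbφ hb0 h1 fun i => ?_
  have h2 : c (e i) ∈ Submodule.span F (Set.range c) := Submodule.subset_span ⟨_, rfl⟩
  rw [h] at h2
  rw [hb]
  exact h2

/-! ### Weighted bases -/

section OfBasis

variable {κ : Type*} [Fintype κ] (b : Basis κ F V) (z : κ → ℚ)

open Classical in
/-- The filtration of a weighted basis. -/
noncomputable def ofBasis : Fil F V where
  v x := Finset.univ.inf fun i => if b.repr x i = 0 then ⊤ else (z i : WithTop ℚ)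
  v_zero := by simp
  ne_top x hx := by
    have h1 : ∃ i, b.repr x i ≠ 0 := by
      by_contra hc
      push Not at hc
      exact hx (b.ext_elem fun i => by rw [hc i, map_zero, Finsupp.zero_apply])
    obtain ⟨i, hi⟩ := h1
    refine ne_top_of_le_ne_top (b := (z i : WithTop ℚ)) WithTop.coe_ne_top (le_trans (Finset.inf_le (Finset.mem_univ i)) ?_)
    rw [if_neg hi]
  v_add x y := by
    refine Finset.le_inf fun i _ => ?_
    split_ifs with h
    · exact le_top
    · by_cases hx : b.repr x i = 0
      · have hy : b.repr y i ≠ 0 := by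
          rintro hy
          rw [map_add, Finsupp.add_apply, hx, hy, add_zero] at h
          exact h rfl
        refine le_trans (min_le_right _ _) (le_trans (Finset.inf_le (Finset.mem_univ i)) ?_)
        rw [if_neg hy]
      · refine le_trans (min_le_left _ _) (le_trans (Finset.inf_le (Finset.mem_univ i)) ?_)
        rw [if_neg hx]
  v_smul c x hc := by
    refine Finset.inf_congr rfl fun i _ => ?_
    rw [map_smul, Finsupp.smul_apply, smul_eq_mul, mul_eq_zero]
    simp only [hc, false_or]
  fin := by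
    have h1 : (Set.range fun i => (z i : WithTop ℚ)).Finite := Set.finite_range _
    refine (h1.insert ⊤).subset ?_
    rintro _ ⟨x, rfl⟩
    dsimp only
    obtain h | ⟨i, -, h⟩ : (Finset.univ.inf fun i => if b.repr x i = 0 then ⊤ else (z i : WithTop ℚ)) = ⊤ ∨
        ∃ i ∈ (Finset.univ : Finset κ), (Finset.univ.inf fun i => if b.repr x i = 0 then ⊤ else (z i : WithTop ℚ)) =
          if b.repr x i = 0 then ⊤ else (z i : WithTop ℚ) := by
      by_cases hne : (Finset.univ : Finset κ).Nonempty
      · exact Or.inr (Finset.exists_mem_eq_inf _ hne _)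
      · left
        rw [Finset.not_nonempty_iff_eq_empty.1 hne, Finset.inf_empty]
    · rw [h]
      exact Set.mem_insert _ _
    · rw [h]
      split_ifs
      · exact Set.mem_insert _ _
      · exact Set.mem_insert_of_mem _ ⟨i, rfl⟩

theorem ofBasis_v_le {x : V} {i : κ} (h : b.repr x i ≠ 0) : (ofBasis b z).v x ≤ z i := by
  classical
  refine le_trans (Finset.inf_le (Finset.mem_univ i)) ?_
  rw [if_neg h]

theorem le_ofBasis_v {x : V} {a : WithTop ℚ} (h : ∀ i, b.repr x i ≠ 0 → a ≤ z i) : a ≤ (ofBasis b z).v x := by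
  classical
  refine Finset.le_inf fun i _ => ?_
  split_ifs with h1
  · exact le_top
  · exact h i h1

theorem ofBasis_v_basis (i : κ) : (ofBasis b z).v (b i) = z i := by
  classical
  apply le_antisymm
  · exact ofBasis_v_le b z (by rw [b.repr_self, Finsupp.single_eq_same]; exact one_ne_zero)
  · refine le_ofBasis_v b z fun j hj => ?_
    rw [b.repr_self, Finsupp.single_apply] at hj
    by_cases h : i = j
    · rw [h]
    · rw [if_neg h] at hj
      exact absurd rfl hj

theorem ofBasis_val_basis (i : κ) : (ofBasis b z).val (b i) = z i := by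
  rw [val, ofBasis_v_basis]
  rfl

theorem isAd_ofBasis : (ofBasis b z).IsAd b := by
  classical
  intro c i hi
  rw [ofBasis_v_basis]
  refine ofBasis_v_le b z ?_
  have h1 : b.repr (∑ j, c j • b j) i = c i := by
    rw [map_sum, Finsupp.finsetSum_apply]
    simp [Finsupp.single_apply]
  rwa [h1]

theorem IsAd.v_eq_inf {b : Basis κ F V} (h : φ.IsAd b) : φ = ofBasis b (fun i => φ.val (b i)) := by
  ext x
  by_cases hx : x = 0
  · rw [hx, φ.v_zero, (ofBasis _ _).v_zero]
  apply le_antisymm
  · refine le_ofBasis_v _ _ fun i hi => ?_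
    rw [φ.coe_val (b.ne_zero i)]
    conv_lhs => rw [← b.sum_repr x]
    exact h _ i hi
  · conv_rhs => rw [← b.sum_repr x]
    refine φ.v_sum _ _ _ fun i _ => ?_
    by_cases hi : b.repr x i = 0
    · rw [hi, zero_smul, φ.v_zero]
      exact le_top
    · rw [φ.v_smul _ _ hi, ← φ.coe_val (b.ne_zero i)]
      exact ofBasis_v_le _ _ hi

/-- Common adapted bases of the whole space. -/
theorem exists_common_basis [FiniteDimensional F V] (hκ : finrank F V = Fintype.card κ) :
    ∃ b : Basis κ F V, φ.IsAd b ∧ ψ.IsAd b := by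
  have e : κ ≃ Fin (finrank F V) := Fintype.equivOfCardEq (by rw [Fintype.card_fin, hκ])
  obtain ⟨b, hb, hb0, hφ, hψ⟩ := exists_common φ ψ (finrank F V) ⊤ (finrank_top F V)
  refine ⟨(Basis.mk (hφ.linearIndependent φ hb0) (by rw [hb])).reindex e.symm, ?_, ?_⟩
  · have h1 := hφ.comp φ e
    convert h1
    ext i
    simp
  · have h1 := hψ.comp ψ e
    convert h1
    ext i
    simp

end OfBasis

end Fil

end Groth.Agent.ShStab.K831
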