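import Groth.Agent.ShStab.K752.Semi2
import Mathlib.LinearAlgebra.Multilinear.Basis
import Mathlib.LinearAlgebra.Determinant

/-!
# Twists given by bases; the determinant form of a pairing
-/

set_option autoImplicit false
set_option linter.unusedSectionVars false

open Module

namespace Groth.Agent.ShStab.K831.TwMk

open K752.Semi

section tw

variable {K : Type*} [Field K] {p : ℕ} [Fact p.Prime] [CharP K p] {V V₀ : Type*} [AddCommGroup V] [Module K V]
  [AddCommGroup V₀] [Module K V₀] {ι : Type} [Fintype ι]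

/-- The semilinear map given by bases. -/
noncomputable def mkψ (m : ℕ) (b : Basis ι K V) (c : Basis ι K V₀) : V →+ V₀ where
  toFun v := ∑ i, (b.repr v i) ^ (p ^ m) • c i
  map_zero' := by
    have hp : p ^ m ≠ 0 := pow_ne_zero _ (Fact.out : p.Prime).ne_zero
    simp [zero_pow hp]
  map_add' v w := by
    rw [← Finset.sum_add_distrib]
    refine Finset.sum_congr rfl fun i _ => ?_
    rw [map_add, Finsupp.add_apply, add_pow_char_pow, add_smul]

theorem mkψ_apply (m : ℕ) (b : Basis ι K V) (c : Basis ι K V₀) (v : V) :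
    mkψ (p := p) m b c v = ∑ i, (b.repr v i) ^ (p ^ m) • c i := rfl

theorem repr_mkψ (m : ℕ) (b : Basis ι K V) (c : Basis ι K V₀) (v : V) (i : ι) :
    c.repr (mkψ (p := p) m b c v) i = (b.repr v i) ^ (p ^ m) := by
  rw [mkψ_apply, Basis.repr_sum_self]

/-- The twist given by bases. -/
noncomputable def mkTw (m : ℕ) (b : Basis ι K V) (c : Basis ι K V₀) : Tw (p ^ m) K V V₀ where
  ψ := mkψ (p := p) m b c
  smul a v := by
    rw [mkψ_apply, mkψ_apply, Finset.smul_sum]
    refine Finset.sum_congr rfl fun i _ => ?_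
    rw [map_smul, Finsupp.smul_apply, smul_eq_mul, mul_pow, smul_smul]
  basis r b' := by
    classical
    let e : ι ≃ Fin r := b.indexEquiv b'
    have h1 : (b.reindex e).toMatrix b' = (b.reindex e).toMatrix b' := rfl
    have hM : IsUnit ((b.reindex e).toMatrix b').det := by
      have := (b.reindex e).isUnit_det b'
      rwa [Basis.det_apply] at this
    have h2 : (c.reindex e).toMatrix (fun i => mkψ (p := p) m b c (b' i)) =
        (iterateFrobenius K p m).mapMatrix ((b.reindex e).toMatrix b') := by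
      ext i j
      rw [RingHom.mapMatrix_apply, Matrix.map_apply, Basis.toMatrix_apply, Basis.toMatrix_apply,
        Basis.repr_reindex_apply, Basis.repr_reindex_apply, repr_mkψ, iterateFrobenius_def]
    have h3 : IsUnit ((c.reindex e).det fun i => mkψ (p := p) m b c (b' i)) := by
      rw [Basis.det_apply, h2, ← RingHom.map_det]
      exact hM.map _
    obtain ⟨h4, h5⟩ := (Basis.is_basis_iff_det (c.reindex e)).2 h3
    exact ⟨Basis.mk h4 h5.ge, fun i => by rw [Basis.mk_apply]⟩

theorem mkTw_ψ (m : ℕ) (b : Basis ι K V) (c : Basis ι K V₀) (v : V) :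
    (mkTw (p := p) m b c).ψ v = ∑ i, (b.repr v i) ^ (p ^ m) • c i := rfl

theorem tb_mkTw [DecidableEq ι] (m : ℕ) (b : Basis ι K V) (c : Basis ι K V₀) : (mkTw (p := p) m b c).tb b = c := by
  ext1 i
  rw [Tw.tb_apply, mkTw_ψ, Finset.sum_eq_single i]
  · simp
  · intro j _ hj
    have hp : p ^ m ≠ 0 := pow_ne_zero _ (Fact.out : p.Prime).ne_zero
    rw [b.repr_self, Finsupp.single_apply, if_neg (fun h => hj h.symm), zero_pow hp, zero_smul]
  · intro h
    exact absurd (Finset.mem_univ i) h

end tw

universe u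

section form

/-- Three blocks. -/
inductive I3 | a | b | c
  deriving DecidableEq

instance : Fintype I3 := ⟨{.a, .b, .c}, fun x => by cases x <;> decide⟩

/-- The three spaces. -/
def VV (A D K : Type u) : I3 → Type u
  | .a => A
  | .b => D
  | .c => K

variable {K : Type u} [Field K] {A D M : Type u} [AddCommGroup A] [Module K A] [AddCommGroup D] [Module K D]
  [AddCommGroup M] [Module K M]

noncomputable instance instACG : ∀ i : I3, AddCommGroup (VV A D K i)
  | .a => inferInstanceAs (AddCommGroup A)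
  | .b => inferInstanceAs (AddCommGroup D)
  | .c => inferInstanceAs (AddCommGroup K)

noncomputable instance instMod : ∀ i : I3, Module K (VV A D K i)
  | .a => inferInstanceAs (Module K A)
  | .b => inferInstanceAs (Module K D)
  | .c => inferInstanceAs (Module K K)

variable (φ : A →ₗ[K] D →ₗ[K] M) (Q : Submodule K M) (hQ : ∀ a q, φ a q ∈ Q) {q : ℕ} (e : Basis (Fin q) K Q)

/-- The slots. -/
abbrev Sl (q : ℕ) := Fin q ⊕ Fin q ⊕ Unit

/-- The block of a slot. -/
def c0 {q : ℕ} : Sl q → I3
  | .inl _ => .a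
  | .inr (.inl _) => .b
  | .inr (.inr _) => .c

/-- The values of the pairing. -/
def ar (a : Fin q → A) (β : Fin q → D) : Fin q → Q := fun i => ⟨φ (a i) (β i), hQ _ _⟩

theorem ar_left (a : Fin q → A) (β : Fin q → D) (i0 : Fin q) (z : A) :
    ar φ Q hQ (Function.update a i0 z) β = Function.update (ar φ Q hQ a β) i0 ⟨φ z (β i0), hQ _ _⟩ := by
  funext i
  by_cases h : i = i0
  · subst h
    rw [Function.update_self]
    exact Subtype.ext (by change φ (Function.update a i z i) (β i) = φ z (β i); rw [Function.update_self])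
  · rw [Function.update_of_ne h]
    exact Subtype.ext (by
      change φ (Function.update a i0 z i) (β i) = φ (a i) (β i)
      rw [Function.update_of_ne h])

theorem ar_right (a : Fin q → A) (β : Fin q → D) (i0 : Fin q) (z : D) :
    ar φ Q hQ a (Function.update β i0 z) = Function.update (ar φ Q hQ a β) i0 ⟨φ (a i0) z, hQ _ _⟩ := by
  funext i
  by_cases h : i = i0
  · subst h
    rw [Function.update_self]
    exact Subtype.ext (by change φ (a i) (Function.update β i z i) = φ (a i) z; rw [Function.update_self])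
  · rw [Function.update_of_ne h]
    exact Subtype.ext (by
      change φ (a i) (Function.update β i0 z i) = φ (a i) (β i)
      rw [Function.update_of_ne h])

/-- The form. -/
noncomputable def Fv (a : Fin q → A) (β : Fin q → D) (x : K) : K := x * e.det (ar φ Q hQ a β)

theorem Fv_add_left (a : Fin q → A) (β : Fin q → D) (x : K) (i0 : Fin q) (z z' : A) :
    Fv φ Q hQ e (Function.update a i0 (z + z')) β x =
      Fv φ Q hQ e (Function.update a i0 z) β x + Fv φ Q hQ e (Function.update a i0 z') β x := by
  rw [Fv, Fv, Fv, ar_left, ar_left, ar_left, ← mul_add, ← AlternatingMap.map_update_add]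
  congr 3
  exact Subtype.ext (by simp)

theorem Fv_smul_left (a : Fin q → A) (β : Fin q → D) (x : K) (i0 : Fin q) (c : K) (z : A) :
    Fv φ Q hQ e (Function.update a i0 (c • z)) β x = c * Fv φ Q hQ e (Function.update a i0 z) β x := by
  rw [Fv, Fv, ar_left, ar_left, mul_left_comm, ← smul_eq_mul c, ← AlternatingMap.map_update_smul]
  congr 3
  exact Subtype.ext (by simp)

theorem Fv_add_right (a : Fin q → A) (β : Fin q → D) (x : K) (i0 : Fin q) (z z' : D) :
    Fv φ Q hQ e a (Function.update β i0 (z + z')) x =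
      Fv φ Q hQ e a (Function.update β i0 z) x + Fv φ Q hQ e a (Function.update β i0 z') x := by
  rw [Fv, Fv, Fv, ar_right, ar_right, ar_right, ← mul_add, ← AlternatingMap.map_update_add]
  congr 3
  exact Subtype.ext (by simp)

theorem Fv_smul_right (a : Fin q → A) (β : Fin q → D) (x : K) (i0 : Fin q) (c : K) (z : D) :
    Fv φ Q hQ e a (Function.update β i0 (c • z)) x = c * Fv φ Q hQ e a (Function.update β i0 z) x := by
  rw [Fv, Fv, ar_right, ar_right, mul_left_comm, ← smul_eq_mul c, ← AlternatingMap.map_update_smul]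
  congr 3
  exact Subtype.ext (by simp)

theorem Fv_add_x (a : Fin q → A) (β : Fin q → D) (x x' : K) :
    Fv φ Q hQ e a β (x + x') = Fv φ Q hQ e a β x + Fv φ Q hQ e a β x' := by
  rw [Fv, Fv, Fv, add_mul]

theorem Fv_smul_x (a : Fin q → A) (β : Fin q → D) (c x : K) :
    Fv φ Q hQ e a β (c * x) = c * Fv φ Q hQ e a β x := by
  rw [Fv, Fv, mul_assoc]

/-- The components. -/
def pa (v : ∀ s : Sl q, VV A D K (c0 s)) : Fin q → A := fun i => v (.inl i)

/-- The components. -/
def pb (v : ∀ s : Sl q, VV A D K (c0 s)) : Fin q → D := fun i => v (.inr (.inl i))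

/-- The components. -/
def pc (v : ∀ s : Sl q, VV A D K (c0 s)) : K := v (.inr (.inr ()))

theorem pa_a (v : ∀ s : Sl q, VV A D K (c0 s)) (i0 : Fin q) (z : VV A D K (c0 (.inl i0 : Sl q))) :
    pa (Function.update v (.inl i0) z) = Function.update (pa v) i0 z := by
  funext i
  by_cases h : i = i0
  · subst h
    exact (Function.update_self (Sum.inl i) z v).trans (Function.update_self i (z : A) (pa v)).symm
  · exact (Function.update_of_ne (show (Sum.inl i : Sl q) ≠ Sum.inl i0 by simpa using h) z v).trans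
      (Function.update_of_ne h (z : A) (pa v)).symm

theorem pa_b (v : ∀ s : Sl q, VV A D K (c0 s)) (i0 : Fin q) (z : VV A D K (c0 (.inr (.inl i0) : Sl q))) :
    pa (Function.update v (.inr (.inl i0)) z) = pa v := by
  funext i
  rw [pa, Function.update_of_ne (by simp)]
  rfl

theorem pa_c (v : ∀ s : Sl q, VV A D K (c0 s)) (z : VV A D K (c0 (.inr (.inr ()) : Sl q))) :
    pa (Function.update v (.inr (.inr ())) z) = pa v := by
  funext i
  rw [pa, Function.update_of_ne (by simp)]
  rfl

theorem pb_a (v : ∀ s : Sl q, VV A D K (c0 s)) (i0 : Fin q) (z : VV A D K (c0 (.inl i0 : Sl q))) :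
    pb (Function.update v (.inl i0) z) = pb v := by
  funext i
  rw [pb, Function.update_of_ne (by simp)]
  rfl

theorem pb_b (v : ∀ s : Sl q, VV A D K (c0 s)) (i0 : Fin q) (z : VV A D K (c0 (.inr (.inl i0) : Sl q))) :
    pb (Function.update v (.inr (.inl i0)) z) = Function.update (pb v) i0 z := by
  funext i
  by_cases h : i = i0
  · subst h
    exact (Function.update_self (Sum.inr (Sum.inl i)) z v).trans (Function.update_self i (z : D) (pb v)).symm
  · exact (Function.update_of_ne (show (Sum.inr (Sum.inl i) : Sl q) ≠ Sum.inr (Sum.inl i0) by simpa using h) z v).trans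
      (Function.update_of_ne h (z : D) (pb v)).symm

theorem pb_c (v : ∀ s : Sl q, VV A D K (c0 s)) (z : VV A D K (c0 (.inr (.inr ()) : Sl q))) :
    pb (Function.update v (.inr (.inr ())) z) = pb v := by
  funext i
  rw [pb, Function.update_of_ne (by simp)]
  rfl

theorem pc_a (v : ∀ s : Sl q, VV A D K (c0 s)) (i0 : Fin q) (z : VV A D K (c0 (.inl i0 : Sl q))) :
    pc (Function.update v (.inl i0) z) = pc v := by
  rw [pc, Function.update_of_ne (by simp)]
  rfl

theorem pc_b (v : ∀ s : Sl q, VV A D K (c0 s)) (i0 : Fin q) (z : VV A D K (c0 (.inr (.inl i0) : Sl q))) :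
    pc (Function.update v (.inr (.inl i0)) z) = pc v := by
  rw [pc, Function.update_of_ne (by simp)]
  rfl

theorem pc_c (v : ∀ s : Sl q, VV A D K (c0 s)) (z : VV A D K (c0 (.inr (.inr ()) : Sl q))) :
    pc (Function.update v (.inr (.inr ())) z) = z := by
  rw [pc, Function.update_self]

/-- The multilinear form on the three blocks. -/
noncomputable def tf : MultilinearMap K (fun s : Sl q => VV A D K (c0 s)) K where
  toFun v := Fv φ Q hQ e (pa v) (pb v) (pc v)
  map_update_add' := by
    intro inst v s z z'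
    have hinst : inst = fun a b => instDecidableEqSum a b := Subsingleton.elim _ _
    subst hinst
    rcases s with i0 | i0 | ⟨⟩
    · rw [pa_a, pa_a, pa_a, pb_a, pb_a, pb_a, pc_a, pc_a, pc_a]
      exact Fv_add_left φ Q hQ e _ _ _ i0 z z'
    · rw [pa_b, pa_b, pa_b, pb_b, pb_b, pb_b, pc_b, pc_b, pc_b]
      exact Fv_add_right φ Q hQ e _ _ _ i0 z z'
    · rw [pa_c, pa_c, pa_c, pb_c, pb_c, pb_c, pc_c, pc_c, pc_c]
      exact Fv_add_x φ Q hQ e _ _ z z'
  map_update_smul' := by
    intro inst v s c z
    have hinst : inst = fun a b => instDecidableEqSum a b := Subsingleton.elim _ _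
    subst hinst
    rcases s with i0 | i0 | ⟨⟩
    · rw [pa_a, pa_a, pb_a, pb_a, pc_a, pc_a]
      exact Fv_smul_left φ Q hQ e _ _ _ i0 c z
    · rw [pa_b, pa_b, pb_b, pb_b, pc_b, pc_b]
      exact Fv_smul_right φ Q hQ e _ _ _ i0 c z
    · rw [pa_c, pa_c, pb_c, pb_c, pc_c, pc_c]
      exact Fv_smul_x φ Q hQ e _ _ c z

theorem tf_apply (v : ∀ s : Sl q, VV A D K (c0 s)) : tf φ Q hQ e v = pc v * e.det (ar φ Q hQ (pa v) (pb v)) := rfl

/-- The vector with given components. -/
def mkv (a : Fin q → A) (β : Fin q → D) (x : K) : ∀ s : Sl q, VV A D K (c0 s)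
  | .inl i => a i
  | .inr (.inl i) => β i
  | .inr (.inr _) => x

/-- The form is nonzero if `Q` is the span of the values. -/
theorem tf_ne_zero (hspan : Q = Submodule.span K {x | ∃ a q, φ a q = x}) : tf φ Q hQ e ≠ 0 := by
  classical
  let f : A × D → Q := fun z => ⟨φ z.1 z.2, hQ _ _⟩
  have htop : Submodule.span K (Set.range f) = ⊤ := by
    rw [← Submodule.map_injective_of_injective Q.injective_subtype |>.eq_iff, Submodule.map_span,
      Submodule.map_subtype_top, ← Set.range_comp]
    conv_rhs => rw [hspan]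
    congr 1
    ext x
    constructor
    · rintro ⟨z, rfl⟩
      exact ⟨z.1, z.2, rfl⟩
    · rintro ⟨a, q, rfl⟩
      exact ⟨(a, q), rfl⟩
  obtain ⟨κ, g, hg, hs, hli⟩ := exists_linearIndependent' K f
  let B : Basis κ K Q := Basis.mk hli (by rw [hs, htop])
  have hfin : Module.Finite K Q := Module.Finite.of_basis e
  have hκ : Finite κ := Module.Finite.finite_basis B
  have : Fintype κ := Fintype.ofFinite κ
  let σ : Fin q ≃ κ := e.indexEquiv B
  have hB : ∀ i, B (σ i) = f (g (σ i)) := fun i => by simp [B]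
  intro h0
  have h1 : tf φ Q hQ e (mkv (fun i => (g (σ i)).1) (fun i => (g (σ i)).2) 1) = 0 := by
    rw [h0]
    rfl
  rw [tf_apply] at h1
  have h2 : ar φ Q hQ (pa (mkv (K := K) (fun i => (g (σ i)).1) (fun i => (g (σ i)).2) 1))
      (pb (mkv (K := K) (fun i => (g (σ i)).1) (fun i => (g (σ i)).2) 1)) = B.reindex σ.symm := by
    funext i
    rw [Basis.reindex_apply, Equiv.symm_symm, hB]
    rfl
  rw [h2] at h1
  have h3 := (e.isUnit_det (B.reindex σ.symm)).ne_zero
  refine h3 ?_
  have h4 : pc (mkv (K := K) (fun i => (g (σ i)).1) (fun i => (g (σ i)).2) 1) = 1 := rfl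
  rw [h4, one_mul] at h1
  exact h1

end form

end Groth.Agent.ShStab.K831.TwMk
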