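import Groth.Agent.ShStab.K991.FamT
import Groth.Agent.ShStab.K752.Ranks
import Groth.Agent.ShStab.K831.TwMk

/-!
# Strong semistability: transport, duals, lines
-/

set_option autoImplicit false
set_option linter.unusedSectionVars false
universe u
open CategoryTheory CategoryTheory.Limits AlgebraicGeometry Opposite TopologicalSpace Module

namespace Groth.Agent.ShStab.K831.DualFam

open K849.DvrLat K849.CstTor K849.CstDeg K849.Fam K752.Semi K752.FamPair K752.FamFrob K752.FamDual K752.Ranks
open K991.FamT Groth.Agent.ShStab.K831.TwMk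

attribute [local instance 50] modAt

variable {X : Scheme.{u}} [IsIntegral X] [IsNoetherian X] [RegOne X] {δ : C1 X → ℚ}
  {V : Type u} [AddCommGroup V] [Module (X.presheaf.stalk (genericPoint X)) V]
  {V' : Type u} [AddCommGroup V'] [Module (X.presheaf.stalk (genericPoint X)) V']

/-- Transport of semistability. -/
theorem SSt_of_mapE [Module.Finite X.functionField V] [Module.Finite X.functionField V'] (hδ : IsPrin δ)
    (h0 : ∀ y, 0 ≤ δ y) {L : LFam X V} (h : IsFam L) (e : V ≃ₗ[X.presheaf.stalk (genericPoint X)] V')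
    (hs : SSt δ (mapE L e)) : SSt δ L := by
  intro W
  have h1 := hs (W.map (e : V →ₗ[X.presheaf.stalk (genericPoint X)] V'))
  have hf : finrank X.functionField V = finrank X.functionField V' := LinearEquiv.finrank_eq e
  have hw : finrank X.functionField (W.map (e : V →ₗ[X.presheaf.stalk (genericPoint X)] V')) =
      finrank X.functionField W := (LinearEquiv.finrank_eq (e.submoduleMap W)).symm
  have hd : Deg δ (mapE L e) = Deg δ L := Deg_mapE hδ h e (Module.finBasis X.functionField V)
  have hle : Deg δ (sub L W) ≤ Deg δ (sub (mapE L e) (W.map (e : V →ₗ[X.presheaf.stalk (genericPoint X)] V'))) :=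
    Deg_le_of_equiv hδ h0 (fam_sub h W) (fam_sub (h.mapE e (Module.finBasis X.functionField V)) _)
      (e.submoduleMap W) (Module.finBasis X.functionField W) (fun y v hv => ⟨v, hv, rfl⟩)
  rw [hw, hd, ← hf] at h1
  refine le_trans (mul_le_mul_of_nonneg_left hle (Nat.cast_nonneg _)) h1

instance [Module.Finite X.functionField V] : Module.Finite X.functionField (Dl X V) :=
  Module.Finite.of_basis (db (Module.finBasis X.functionField V))

theorem finrank_Dl [Module.Finite X.functionField V] : finrank X.functionField (Dl X V) = finrank X.functionField V := by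
  rw [finrank_eq_card_basis (db (Module.finBasis X.functionField V)), Fintype.card_fin]

/-- The dual of a semistable family is semistable. -/
theorem SSt_dual [Module.Finite X.functionField V] (hδ : IsPrin δ) (h0 : ∀ y, 0 ≤ δ y) {L : LFam X V} (h : IsFam L)
    (hs : SSt δ L) : SSt δ (dual L) := by
  intro W
  let W' : Submodule X.functionField (Module.Dual X.functionField V) := W.map (fnL (X := X) (V := V)).toLinearMap
  let N : Submodule X.functionField V := W'.dualCoannihilator
  let e1 : W ≃ₗ[X.functionField] W' := (fnL (X := X) (V := V)).submoduleMap W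
  have hW' : N.dualAnnihilator = W' := Subspace.dualCoannihilator_dualAnnihilator_eq
  let e2 : W' ≃ₗ[X.functionField] N.dualAnnihilator := LinearEquiv.ofEq _ _ hW'.symm
  let e3 : N.dualAnnihilator ≃ₗ[X.functionField] Module.Dual X.functionField (V ⧸ N) := N.dualQuotEquivDualAnnihilator.symm
  let e : W ≃ₗ[X.functionField] Dl X (V ⧸ N) := (e1.trans e2).trans (e3.trans (fnL (X := X) (V := V ⧸ N)).symm)
  have he : ∀ (q : W) (v : V), (e q).fn (N.mkQ v) = (q : Dl X V).fn v := by
    intro q v
    have h1 : e3.symm (e3 (e2 (e1 q))) = e2 (e1 q) := e3.symm_apply_apply _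
    have h2 := congrArg (fun t : N.dualAnnihilator => (t : Module.Dual X.functionField V) v) h1
    exact h2
  have hfr : finrank X.functionField W + finrank X.functionField N = finrank X.functionField V := by
    have h1 := Subspace.finrank_add_finrank_dualCoannihilator_eq W'
    rwa [← LinearEquiv.finrank_eq e1] at h1
  have hle : Deg δ (sub (dual L) W) ≤ Deg δ (dual (quo L N)) := by
    refine Deg_le_of_equiv hδ h0 (fam_sub (h.dual (Module.finBasis X.functionField V)) W)
      ((fam_quo h N).dual (Module.finBasis X.functionField (V ⧸ N))) e (Module.finBasis X.functionField W) ?_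
    intro y q hq
    rw [mem_dual]
    rintro _ ⟨v, hv, rfl⟩
    obtain ⟨r, hr⟩ := hq v hv
    exact ⟨r, hr.trans (he q v).symm⟩
  rw [Deg_dual hδ (fam_quo h N) (Module.finBasis X.functionField (V ⧸ N))] at hle
  have h3 := deg_exact hδ h N
  have h4 := hs N
  rw [finrank_Dl, Deg_dual hδ h (Module.finBasis X.functionField V)]
  have h5 : (finrank X.functionField W : ℚ) + finrank X.functionField N = finrank X.functionField V := by
    exact_mod_cast hfr
  have h6 := mul_le_mul_of_nonneg_left hle (Nat.cast_nonneg (α := ℚ) (finrank X.functionField V))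
  have h7 : (finrank X.functionField V : ℚ) * Deg δ (quo L N) =
    finrank X.functionField V * Deg δ L - finrank X.functionField V * Deg δ (sub L N) := by
    rw [h3]
    ring
  have h8 : (finrank X.functionField V : ℚ) * Deg δ L =
    finrank X.functionField W * Deg δ L + finrank X.functionField N * Deg δ L := by
    rw [← h5]
    ring
  linarith

/-- The pairing between the twist of the dual and the twist. -/
theorem pair_tw {p : ℕ} [Fact p.Prime] [CharP X.functionField p] {m : ℕ} {ι : Type} [Fintype ι] [DecidableEq ι]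
    (b : Basis ι X.functionField V) (T : Tw (p ^ m) X.functionField (Dl X V) V')
    (T₀ : Tw (p ^ m) X.functionField V V) (q : Dl X V) (v : V) :
    ((T.tb (db b)).equiv (db (T₀.tb b)) (Equiv.refl ι) (T.ψ q)).fn (T₀.ψ v) = (q.fn v) ^ (p ^ m) := by
  have h1 : (T.tb (db b)).equiv (db (T₀.tb b)) (Equiv.refl ι) (T.ψ q) =
      ∑ i, (q.fn (b i)) ^ (p ^ m) • db (T₀.tb b) i := by
    rw [T.ψ_eq (db b) q, map_sum]
    refine Finset.sum_congr rfl fun i _ => ?_
    rw [map_smul, Basis.equiv_apply, Equiv.refl_apply, db_repr]
  rw [h1]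
  have h2 : (∑ i, (q.fn (b i)) ^ (p ^ m) • db (T₀.tb b) i : Dl X V).fn (T₀.ψ v) =
      ∑ i, (q.fn (b i)) ^ (p ^ m) * (db (T₀.tb b) i).fn (T₀.ψ v) := by
    have h3 := congrArg (fun t : V →ₗ[X.functionField] X.functionField => t (T₀.ψ v))
      (map_sum (fnL (X := X) (V := V)) (fun i => (q.fn (b i)) ^ (p ^ m) • db (T₀.tb b) i) Finset.univ)
    refine h3.trans ?_
    rw [LinearMap.sum_apply]
    rfl
  rw [h2]
  have h4 : q.fn v = ∑ i, q.fn (b i) * b.repr v i := by
    conv_lhs => rw [← b.sum_repr v]
    rw [map_sum]
    refine Finset.sum_congr rfl fun i _ => ?_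
    rw [map_smul, smul_eq_mul, mul_comm]
  rw [h4, sum_pow_char_pow]
  refine Finset.sum_congr rfl fun i _ => ?_
  rw [db_apply, T₀.repr_ψ, mul_pow]

/-- **The dual of a strongly semistable family is strongly semistable.** -/
theorem Strong_dual [Module.Finite X.functionField V] {p : ℕ} [Fact p.Prime] [CharP X.functionField p] (hδ : IsPrin δ)
    (h0 : ∀ y, 0 ≤ δ y) {Λ : LFam X V} (h : IsFam Λ) (hs : Strong p δ Λ) : Strong p δ (dual Λ) := by
  intro m V' _ _ T
  let b := Module.finBasis X.functionField V
  let T₀ : Tw (p ^ m) X.functionField V V := mkTw m b b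
  have h2 : SSt δ (dual (tw T₀ Λ)) := SSt_dual hδ h0 (h.tw T₀ b) (hs m V T₀)
  have hfin' : Module.Finite X.functionField V' := Module.Finite.of_basis (T.tb (db b))
  let e : V' ≃ₗ[X.functionField] Dl X V := (T.tb (db b)).equiv (db (T₀.tb b)) (Equiv.refl _)
  have hkey : ∀ (c : Basis (Fin (finrank X.functionField V)) X.functionField V) i, e (T.tb (db c) i) = db (T₀.tb c) i := by
    intro c i
    rw [T.tb_apply]
    have h4 : (e (T.ψ (db c i))).fn = (db (T₀.tb c) i).fn := by
      refine (T₀.tb c).ext fun j => ?_
      rw [db_apply, Basis.repr_self, T₀.tb_apply]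
      refine (pair_tw b T T₀ (db c i) (c j)).trans ?_
      rw [db_apply, Basis.repr_self, Finsupp.single_apply]
      split_ifs
      · exact one_pow _
      · exact zero_pow (pow_ne_zero _ (Fact.out : p.Prime).ne_zero)
    exact h4
  have h3 : mapE (tw T (dual Λ)) e = dual (tw T₀ Λ) := by
    funext y
    obtain ⟨c, hc⟩ := (h.lat y).exists_basis _ b
    rw [dual_sp (tw_sp T₀ hc), mapE, tw_sp T (dual_sp hc), sp, sp, Submodule.map_span, ← Set.range_comp]
    congr 2
    funext i
    exact hkey c i
  refine SSt_of_mapE hδ h0 ((h.dual b).tw T (db b)) e ?_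
  rw [h3]
  exact h2

/-- Families of rank one are strongly semistable. -/
theorem Strong_line {p : ℕ} (hδ : IsPrin δ) {L : LFam X V} (h : IsFam L) (b : Basis (Fin 1) X.functionField V) :
    Strong p δ L := by
  intro m V' _ _ T W
  have hfin : Module.Finite X.functionField V' := Module.Finite.of_basis (T.tb b)
  have hV' : finrank X.functionField V' = 1 := by
    rw [finrank_eq_card_basis (T.tb b), Fintype.card_fin]
  have hL := h.tw T b
  have h1 := W.finrank_le
  have h2 := W.finrank_quotient_add_finrank
  rw [hV'] at h1 h2 ⊢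
  rcases Nat.le_one_iff_eq_zero_or_eq_one.1 h1 with h3 | h3
  · rw [deg_sub_bot hδ hL W h3, h3]
    simp
  · rw [deg_sub_top hδ hL W (by omega), h3]

end Groth.Agent.ShStab.K831.DualFam
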