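import Groth.Agent.ShStab.K831.Opt

/-!
# Weighted flags given by block-diagonal matrices; common adapted block bases
-/

set_option autoImplicit false
set_option linter.unusedSectionVars false
universe u

namespace Groth.Agent.ShStab.K831.Flags

open K865.TenAct K991.Ten Module Matrix
open Groth.Agent.ShStab.K831.MinNorm Groth.Agent.ShStab.K831.Opt
open scoped BigOperators

section mat

variable {R : Type*} [Fintype R] [DecidableEq R] {k : Type*} [Field k]

/-- The basis with coordinates `g *ᵥ x`. -/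
noncomputable def gb (g : Matrix R R k) (hg : IsUnit g.det) : Basis R k (R → k) :=
  Basis.ofEquivFun (LinearEquiv.ofBijective (Matrix.mulVecLin g)
    ⟨Matrix.mulVec_injective_iff_isUnit.2 ((Matrix.isUnit_iff_isUnit_det g).2 hg),
      Matrix.mulVec_surjective_iff_isUnit.2 ((Matrix.isUnit_iff_isUnit_det g).2 hg)⟩)

theorem gb_repr (g : Matrix R R k) (hg : IsUnit g.det) (x : R → k) (r : R) :
    (gb g hg).repr x r = (g *ᵥ x) r := by
  rw [gb, Basis.ofEquivFun_repr_apply]
  rfl

theorem gb_apply (g : Matrix R R k) (hg : IsUnit g.det) (r : R) : gb g hg r = g⁻¹ *ᵥ Pi.single r 1 := by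
  apply (gb g hg).ext_elem
  intro i
  rw [gb_repr, gb_repr, Matrix.mulVec_mulVec, Matrix.mul_nonsing_inv _ hg, Matrix.one_mulVec, ← gb_repr g hg,
    Basis.repr_self, Finsupp.single_apply, Pi.single_apply]
  simp only [eq_comm]

/-- The filtration of a weighted matrix. -/
noncomputable def filM (g : Matrix R R k) (hg : IsUnit g.det) (w : R → ℚ) : Fil k (R → k) := Fil.ofBasis (gb g hg) w

theorem filM_le (g g' : Matrix R R k) (hg : IsUnit g.det) (hg' : IsUnit g'.det) (w l : R → ℚ)
    (h : filM g hg w = filM g' hg' l) (r r' : R) (hr : (g' * g⁻¹) r r' ≠ 0) : w r' ≤ l r := by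
  have h1 : (gb g' hg').repr (gb g hg r') r = (g' * g⁻¹) r r' := by
    rw [gb_repr, gb_apply, Matrix.mulVec_mulVec, Matrix.mulVec_single_one]
    rfl
  have h2 : (filM g' hg' l).v (gb g hg r') ≤ l r := Fil.ofBasis_v_le _ _ (by rwa [h1])
  rw [← h, filM, Fil.ofBasis_v_basis] at h2
  exact WithTop.coe_le_coe.1 h2

variable {I : Type*} [DecidableEq I] (b0 : R → I)

/-- The projection to a block. -/
def pr (i : I) : (R → k) →ₗ[k] (R → k) where
  toFun x r := if b0 r = i then x r else 0
  map_add' x y := by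
    ext r
    simp only [Pi.add_apply]
    split_ifs <;> simp
  map_smul' c x := by
    ext r
    simp only [Pi.smul_apply, RingHom.id_apply]
    split_ifs <;> simp

theorem pr_apply (i : I) (x : R → k) (r : R) : pr b0 i x r = if b0 r = i then x r else 0 := rfl

theorem pr_pr (i : I) (x : R → k) : pr b0 i (pr b0 i x) = pr b0 i x := by
  ext r
  simp only [pr_apply]
  split_ifs <;> rfl

theorem mulVec_pr {g : Matrix R R k} (hg : IsBlk b0 g) (i : I) (x : R → k) :
    g *ᵥ (pr b0 i x) = pr b0 i (g *ᵥ x) := by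
  ext r
  rw [pr_apply, Matrix.mulVec, Matrix.mulVec, dotProduct, dotProduct]
  split_ifs with h
  · refine Finset.sum_congr rfl fun j _ => ?_
    rw [pr_apply]
    by_cases hj : b0 j = i
    · rw [if_pos hj]
    · rw [hg r j (fun he => hj (he ▸ h)), zero_mul, zero_mul]
  · refine Finset.sum_eq_zero fun j _ => ?_
    rw [pr_apply]
    by_cases hj : b0 j = i
    · rw [hg r j (fun he => h (he.trans hj)), zero_mul]
    · rw [if_neg hj, mul_zero]

theorem filM_pr {g : Matrix R R k} (hg : IsUnit g.det) (hb : IsBlk b0 g) (w : R → ℚ) (i : I) (x : R → k) :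
    (filM g hg w).v x ≤ (filM g hg w).v (pr b0 i x) := by
  refine Fil.le_ofBasis_v _ _ fun r hr => ?_
  rw [gb_repr, mulVec_pr b0 hb, pr_apply] at hr
  split_ifs at hr with h
  · exact Fil.ofBasis_v_le _ _ (by rwa [gb_repr])
  · exact absurd rfl hr

/-- The inverse of a block matrix. -/
theorem isBlk_inv {g : Matrix R R k} (hg : IsUnit g.det) (hb : IsBlk b0 g) : IsBlk b0 g⁻¹ := by
  let N : Matrix R R k := Matrix.of fun i j => if b0 i = b0 j then g⁻¹ i j else 0
  have h1 : g * N = 1 := by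
    ext i j
    rw [Matrix.mul_apply]
    have h2 : ∀ l, g i l * N l j = if b0 i = b0 j then g i l * g⁻¹ l j else 0 := by
      intro l
      by_cases hl : b0 i = b0 l
      · simp only [N, Matrix.of_apply, hl]
        split_ifs <;> simp
      · rw [hb i l hl, zero_mul, zero_mul, ite_self]
    simp only [h2]
    by_cases hij : b0 i = b0 j
    · simp only [if_pos hij]
      rw [← Matrix.mul_apply, Matrix.mul_nonsing_inv _ hg]
    · simp only [if_neg hij, Finset.sum_const_zero]
      rw [Matrix.one_apply_ne fun h => hij (by rw [h])]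
  rw [Matrix.inv_eq_right_inv h1]
  intro i j hij
  simp only [N, Matrix.of_apply, if_neg hij]

/-- Extension by zero from a block. -/
def emb (i : I) : ({r // b0 r = i} → k) →ₗ[k] (R → k) where
  toFun y r := if h : b0 r = i then y ⟨r, h⟩ else 0
  map_add' x y := by
    ext r
    simp only [Pi.add_apply]
    split_ifs <;> simp
  map_smul' c x := by
    ext r
    simp only [Pi.smul_apply, RingHom.id_apply]
    split_ifs <;> simp

theorem emb_apply (i : I) (y : {r // b0 r = i} → k) (r : R) (h : b0 r = i) : emb b0 i y r = y ⟨r, h⟩ := dif_pos h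

theorem emb_injective (i : I) : Function.Injective (emb (k := k) b0 i) := by
  intro x y h
  ext ⟨r, hr⟩
  rw [← emb_apply b0 i x r hr, h, emb_apply b0 i y r hr]

/-- The block subspace. -/
def Vb (i : I) : Submodule k (R → k) := LinearMap.range (emb (k := k) b0 i)

theorem mem_Vb {i : I} {x : R → k} : x ∈ Vb b0 i ↔ pr b0 i x = x := by
  constructor
  · rintro ⟨y, rfl⟩
    ext r
    rw [pr_apply]
    split_ifs with h
    · rfl
    · change 0 = if h : b0 r = i then y ⟨r, h⟩ else 0
      rw [dif_neg h]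
  · intro h
    refine ⟨fun r => x r, ?_⟩
    ext r
    rw [← h]
    change (if h : b0 r = i then pr b0 i x r else 0) = _
    split_ifs with h1
    · rw [h]
    · rw [pr_apply, if_neg h1]

theorem finrank_Vb (i : I) : finrank k (Vb (k := k) b0 i) = Fintype.card {r // b0 r = i} := by
  rw [Vb, LinearMap.finrank_range_of_inj (emb_injective b0 i), Module.finrank_fintype_fun_eq_card]

/-- **Common adapted block bases.** -/
theorem exists_block (φ ψ : Fil k (R → k)) (hφ : ∀ x i, φ.v x ≤ φ.v (pr b0 i x))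
    (hψ : ∀ x i, ψ.v x ≤ ψ.v (pr b0 i x)) :
    ∃ β : R → (R → k), (∀ r, pr b0 (b0 r) (β r) = β r) ∧ (∀ r, β r ≠ 0) ∧ φ.IsAd β ∧ ψ.IsAd β := by
  choose b hb hb0 hbφ hbψ using fun i : I => Fil.exists_common φ ψ _ (Vb (k := k) b0 i) (finrank_Vb b0 i)
  let e : ∀ i, {r // b0 r = i} ≃ Fin (Fintype.card {r // b0 r = i}) := fun i => Fintype.equivFin _
  have hmem : ∀ i j, b i j ∈ Vb b0 i := fun i j => hb i ▸ Submodule.subset_span ⟨j, rfl⟩
  let β : R → (R → k) := fun r => b (b0 r) (e (b0 r) ⟨r, rfl⟩)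
  have hβ : ∀ i (r : {r // b0 r = i}), β r = b i (e i r) := by
    rintro i ⟨r, rfl⟩
    rfl
  have key : ∀ (c : R → k) (i : I), pr b0 i (∑ r, c r • β r) =
      ∑ j, c ((e i).symm j) • b i j := by
    intro c i
    rw [map_sum, ← Equiv.sum_comp (e i), ← Finset.sum_filter_add_sum_filter_not Finset.univ (fun r => b0 r = i)]
    have h1 : ∑ r with ¬ b0 r = i, pr b0 i (c r • β r) = 0 := by
      refine Finset.sum_eq_zero fun r hr => ?_
      have hr' : b0 r ≠ i := by simpa using hr
      rw [map_smul, ← (mem_Vb b0).1 (show β r ∈ Vb b0 (b0 r) from hmem _ _)]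
      ext s
      simp only [Pi.smul_apply, pr_apply]
      by_cases h2 : b0 s = i
      · rw [if_pos h2, if_neg (fun h3 => hr' (h3.symm.trans h2)), smul_zero]
        rfl
      · rw [if_neg h2, smul_zero]
        rfl
    rw [h1, add_zero, Finset.sum_subtype (p := fun r => b0 r = i) _ (by simp)]
    refine Finset.sum_congr rfl fun r _ => ?_
    rw [map_smul, hβ i r, (mem_Vb b0).1 (hmem _ _), Equiv.symm_apply_apply]
  have had : ∀ (χ : Fil k (R → k)) (_ : ∀ x i, χ.v x ≤ χ.v (pr b0 i x)) (_ : ∀ i, χ.IsAd (b i)), χ.IsAd β := by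
    intro χ hχ hb c r hr
    refine (hχ _ (b0 r)).trans ?_
    rw [key]
    have h1 := hb (b0 r) (fun j => c ((e (b0 r)).symm j)) (e (b0 r) ⟨r, rfl⟩) (by
      simpa using hr)
    exact h1
  exact ⟨β, fun r => (mem_Vb b0).1 (hmem _ _), fun r => hb0 _ _, had φ hφ hbφ, had ψ hψ hbψ⟩

/-- Two weighted block matrices have a common adapted block matrix. -/
theorem exists_common_mat (φ ψ : Fil k (R → k)) (hφ : ∀ x i, φ.v x ≤ φ.v (pr b0 i x))
    (hψ : ∀ x i, ψ.v x ≤ ψ.v (pr b0 i x)) :
    ∃ (g : Matrix R R k) (hg : IsUnit g.det) (l l' : R → ℚ), IsBlk b0 g ∧ φ = filM g hg l ∧ ψ = filM g hg l' := by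
  obtain ⟨β, hβ, hβ0, hβφ, hβψ⟩ := exists_block b0 φ ψ hφ hψ
  let M : Matrix R R k := Matrix.of fun r r' => β r' r
  have hMblk : IsBlk b0 M := by
    intro r r' hr
    change β r' r = 0
    rw [← hβ r', pr_apply, if_neg hr]
  have hli := hβφ.linearIndependent φ hβ0
  have hM : IsUnit M.det := by
    rw [← Matrix.isUnit_iff_isUnit_det, ← Matrix.linearIndependent_cols_iff_isUnit]
    exact hli
  have hMi : IsUnit (M⁻¹).det := by
    rw [← Matrix.isUnit_iff_isUnit_det]
    exact (Matrix.isUnit_nonsing_inv_iff).2 ((Matrix.isUnit_iff_isUnit_det M).2 hM)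
  have hgb : ∀ r, gb M⁻¹ hMi r = β r := by
    intro r
    rw [gb_apply, Matrix.nonsing_inv_nonsing_inv _ hM, Matrix.mulVec_single_one]
    rfl
  have hgb' : (gb M⁻¹ hMi : R → R → k) = β := funext hgb
  refine ⟨M⁻¹, hMi, fun r => φ.val (β r), fun r => ψ.val (β r), isBlk_inv b0 hM hMblk, ?_, ?_⟩
  · have h1 := Fil.IsAd.v_eq_inf φ (b := gb M⁻¹ hMi) (by rw [hgb']; exact hβφ)
    simp only [hgb] at h1
    exact h1
  · have h1 := Fil.IsAd.v_eq_inf ψ (b := gb M⁻¹ hMi) (by rw [hgb']; exact hβψ)
    simp only [hgb] at h1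
    exact h1

/-- The norm of the weights only depends on the filtration. -/
theorem norm_eq {g g' : Matrix R R k} (hg : IsUnit g.det) (hg' : IsUnit g'.det) {w l : R → ℚ}
    (h : filM g hg w = filM g' hg' l) : ip w w = ip l l := by
  have h1 := Fil.IsAd.sum_eq (filM g hg w) (Fil.isAd_ofBasis (gb g hg) w) (fun i => (gb g hg).ne_zero i)
    (c := gb g' hg') (by rw [h]; exact Fil.isAd_ofBasis (gb g' hg') l) (fun i => (gb g' hg').ne_zero i)
    (by rw [(gb g hg).span_eq, (gb g' hg').span_eq]) (fun t => t * t)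
  have h2 : ∀ i, (filM g hg w).val (gb g hg i) = w i := fun i => Fil.ofBasis_val_basis _ _ i
  have h3 : ∀ i, (filM g hg w).val (gb g' hg' i) = l i := fun i => by
    rw [h]
    exact Fil.ofBasis_val_basis _ _ i
  simp only [h2, h3] at h1
  exact h1

end mat

end Groth.Agent.ShStab.K831.Flags
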