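import Mathlib.LinearAlgebra.BilinearForm.Orthogonal
import Mathlib.LinearAlgebra.Span.Basic
import Mathlib.Data.Rat.Defs
import Mathlib.Algebra.Order.BigOperators.Ring.Finset
import Mathlib.Tactic

/-!
# The point of minimal norm of a rational polytope is rational

For finitely many vectors `x i : R → ℚ` there are `lam i ≥ 0` with `∑ lam i = 1` such that `p = ∑ lam i x i` satisfies
`⟨x i, p⟩ ≥ ⟨p, p⟩` for all `i`. No real numbers are used.
-/

set_option autoImplicit false
set_option linter.unusedSectionVars false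

open Finset Module

namespace Groth.Agent.ShStab.K831.MinNorm

variable {R : Type*} [Fintype R] {ι : Type*} [Fintype ι]

/-- The standard pairing. -/
def ip (x y : R → ℚ) : ℚ := ∑ r, x r * y r

theorem ip_comm (x y : R → ℚ) : ip x y = ip y x := by
  simp only [ip, mul_comm]

theorem ip_add_left (x x' y : R → ℚ) : ip (x + x') y = ip x y + ip x' y := by
  simp only [ip, Pi.add_apply, add_mul, sum_add_distrib]

theorem ip_sub_left (x x' y : R → ℚ) : ip (x - x') y = ip x y - ip x' y := by
  simp only [ip, Pi.sub_apply, sub_mul, sum_sub_distrib]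

theorem ip_smul_left (c : ℚ) (x y : R → ℚ) : ip (c • x) y = c * ip x y := by
  simp only [ip, Pi.smul_apply, smul_eq_mul, mul_sum, mul_assoc]

theorem ip_add_right (x y y' : R → ℚ) : ip x (y + y') = ip x y + ip x y' := by
  rw [ip_comm, ip_add_left, ip_comm y, ip_comm y']

theorem ip_sub_right (x y y' : R → ℚ) : ip x (y - y') = ip x y - ip x y' := by
  rw [ip_comm, ip_sub_left, ip_comm y, ip_comm y']

theorem ip_smul_right (c : ℚ) (x y : R → ℚ) : ip x (c • y) = c * ip x y := by
  rw [ip_comm, ip_smul_left, ip_comm]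

theorem ip_zero_left (y : R → ℚ) : ip 0 y = 0 := by simp [ip]

theorem ip_self_nonneg (x : R → ℚ) : 0 ≤ ip x x := sum_nonneg fun r _ => mul_self_nonneg (x r)

theorem ip_self_eq_zero {x : R → ℚ} (h : ip x x = 0) : x = 0 := by
  rw [ip, sum_eq_zero_iff_of_nonneg fun r _ => mul_self_nonneg (x r)] at h
  ext r
  exact mul_self_eq_zero.1 (h r (mem_univ r))

theorem ip_sum_left {κ : Type*} (s : Finset κ) (f : κ → R → ℚ) (y : R → ℚ) :
    ip (∑ i ∈ s, f i) y = ∑ i ∈ s, ip (f i) y := by
  classical
  induction s using Finset.induction_on with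
  | empty => simp [ip_zero_left]
  | insert i s hi ih => rw [sum_insert hi, sum_insert hi, ip_add_left, ih]

/-- The pairing as a bilinear form. -/
def ipB : LinearMap.BilinForm ℚ (R → ℚ) :=
  LinearMap.mk₂ ℚ ip ip_add_left (fun c x y => ip_smul_left c x y) ip_add_right (fun c x y => ip_smul_right c x y)

/-- Orthogonal projection to a subspace. -/
theorem exists_proj (U : Submodule ℚ (R → ℚ)) (x : R → ℚ) : ∃ u ∈ U, ∀ w ∈ U, ip w (x - u) = 0 := by
  have hrefl : (ipB (R := R)).IsRefl := fun x y h => by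
    change ip y x = 0
    rw [ip_comm]
    exact h
  have hc := (LinearMap.BilinForm.isCompl_orthogonal_iff_disjoint (W := U) hrefl).2 ?_
  · have hx : x ∈ U ⊔ (ipB (R := R)).orthogonal U := by
      rw [hc.sup_eq_top]
      trivial
    obtain ⟨u, hu, w, hw, hx⟩ := Submodule.mem_sup.1 hx
    refine ⟨u, hu, fun w' hw' => ?_⟩
    rw [← hx, add_sub_cancel_left]
    exact hw w' hw'
  · rw [Submodule.disjoint_def]
    intro x hx hx'
    exact ip_self_eq_zero (hx' x hx)

variable (x : ι → R → ℚ)

/-- The point with given coefficients. -/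
def pt (lam : ι → ℚ) : R → ℚ := ∑ i, lam i • x i

theorem ip_pt (lam : ι → ℚ) (y : R → ℚ) : ip (pt x lam) y = ∑ i, lam i * ip (x i) y := by
  rw [pt, ip_sum_left]
  exact sum_congr rfl fun i _ => ip_smul_left _ _ _

theorem pt_add (lam mu : ι → ℚ) : pt x (lam + mu) = pt x lam + pt x mu := by
  simp only [pt, Pi.add_apply, add_smul, sum_add_distrib]

theorem pt_sub (lam mu : ι → ℚ) : pt x (lam - mu) = pt x lam - pt x mu := by
  simp only [pt, Pi.sub_apply, sub_smul, sum_sub_distrib]

theorem pt_smul (c : ℚ) (lam : ι → ℚ) : pt x (c • lam) = c • pt x lam := by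
  simp only [pt, Pi.smul_apply, smul_eq_mul, mul_smul, smul_sum]

/-- Stationary coefficients on `T`. -/
structure Stat (T : Finset ι) (mu : ι → ℚ) : Prop where
  supp : ∀ i, i ∉ T → mu i = 0
  sum : ∑ i, mu i = 1
  eq : ∀ i ∈ T, ip (x i) (pt x mu) = ip (pt x mu) (pt x mu)

theorem Stat.orth {T : Finset ι} {mu : ι → ℚ} (h : Stat x T mu) {nu : ι → ℚ} (hs : ∀ i, i ∉ T → nu i = 0) :
    ip (pt x nu) (pt x mu) = (∑ i, nu i) * ip (pt x mu) (pt x mu) := by
  rw [ip_pt, sum_mul]
  refine sum_congr rfl fun i _ => ?_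
  by_cases hi : i ∈ T
  · rw [h.eq i hi]
  · rw [hs i hi, zero_mul, zero_mul]

theorem exists_stat [DecidableEq ι] (T : Finset ι) (hT : T.Nonempty) : ∃ mu, Stat x T mu := by
  obtain ⟨i0, hi0⟩ := hT
  obtain ⟨u, hu, huo⟩ := exists_proj (Submodule.span ℚ (Set.range fun i : T => x i - x i0)) (x i0)
  have hu' : -u ∈ Submodule.span ℚ (Set.range fun i : T => x i - x i0) := Submodule.neg_mem _ hu
  obtain ⟨c, hc⟩ := (Submodule.mem_span_range_iff_exists_fun ℚ).1 hu'
  -- coefficients
  let d : ι → ℚ := fun i => if h : i ∈ T then c ⟨i, h⟩ else 0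
  have hd : ∑ i, d i • (x i - x i0) = -u := by
    rw [← hc, ← Finset.sum_subset (Finset.subset_univ T) (fun i _ hi => by simp only [d, dif_neg hi, zero_smul]),
      ← Finset.sum_coe_sort T]
    exact sum_congr rfl fun i _ => by simp only [d, dif_pos i.2]
  let mu : ι → ℚ := d + (1 - ∑ i, d i) • Pi.single i0 1
  have hmu : pt x mu = x i0 - u := by
    rw [pt_add, pt_smul]
    have h1 : pt x (Pi.single i0 1) = x i0 := by
      rw [pt, Finset.sum_eq_single i0]
      · rw [Pi.single_eq_same, one_smul]
      · intro j _ hj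
        rw [Pi.single_eq_of_ne hj, zero_smul]
      · intro h
        exact absurd (mem_univ i0) h
    rw [h1, sub_smul, one_smul, sub_eq_add_neg (x i0) u, ← hd]
    simp only [pt, smul_sub, sum_sub_distrib, sum_smul]
    abel
  have hsum : ∑ i, mu i = 1 := by
    simp only [mu, Pi.add_apply, Pi.smul_apply, smul_eq_mul, sum_add_distrib, ← mul_sum]
    rw [Finset.sum_pi_single']
    simp
  refine ⟨mu, ?_, hsum, ?_⟩
  · intro i hi
    have h1 : i ≠ i0 := fun h => hi (h ▸ hi0)
    simp only [mu, d, Pi.add_apply, Pi.smul_apply, dif_neg hi, Pi.single_eq_of_ne h1, smul_zero, add_zero]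
  · have h2 : ∀ i ∈ T, ip (x i) (pt x mu) = ip (x i0) (pt x mu) := by
      intro i hi
      have h3 := huo _ (Submodule.subset_span ⟨⟨i, hi⟩, rfl⟩)
      rw [← hmu] at h3
      dsimp only at h3
      rw [ip_sub_left] at h3
      linarith
    intro i hi
    rw [h2 i hi, ip_pt x mu]
    have h4 : ∀ j, mu j * ip (x j) (pt x mu) = mu j * ip (x i0) (pt x mu) := by
      intro j
      by_cases hj : j ∈ T
      · rw [h2 j hj]
      · have h1 : j ≠ i0 := fun h => hj (h ▸ hi0)
        have h5 : mu j = 0 := by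
          simp only [mu, d, Pi.add_apply, Pi.smul_apply, dif_neg hj, Pi.single_eq_of_ne h1, smul_zero, add_zero]
        rw [h5, zero_mul, zero_mul]
    simp only [h4]
    rw [← sum_mul, hsum, one_mul]

/-- The norm of a stationary point only depends on the set. -/
theorem Stat.norm_eq {T : Finset ι} {mu nu : ι → ℚ} (h : Stat x T mu) (h' : Stat x T nu) :
    ip (pt x mu) (pt x mu) = ip (pt x nu) (pt x nu) := by
  have h1 := h.orth x h'.supp
  have h2 := h'.orth x h.supp
  rw [h'.sum, one_mul] at h1
  rw [h.sum, one_mul, ip_comm] at h2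
  rw [← h1, ← h2]

/-- Descent to a stationary point with nonnegative coefficients. -/
theorem exists_le [DecidableEq ι] (n : ℕ) : ∀ (T : Finset ι) (_ : T.card = n) (lam : ι → ℚ)
    (_ : ∀ i, i ∉ T → lam i = 0) (_ : ∀ i, 0 ≤ lam i) (_ : ∑ i, lam i = 1),
    ∃ (T' : Finset ι) (nu : ι → ℚ), Stat x T' nu ∧ (∀ i, 0 ≤ nu i) ∧ ip (pt x nu) (pt x nu) ≤ ip (pt x lam) (pt x lam) := by
  induction n with
  | zero =>
    intro T hT lam hs _ hsum
    rw [Finset.card_eq_zero.1 hT] at hs
    rw [sum_eq_zero fun i _ => hs i (notMem_empty i)] at hsum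
    exact absurd hsum zero_ne_one
  | succ n ih =>
    intro T hT lam hs h0 hsum
    have hTne : T.Nonempty := Finset.card_pos.1 (by omega)
    obtain ⟨mu, hmu⟩ := exists_stat x T hTne
    -- the quadratic formula on the segment
    have horth : ip (pt x (lam - mu)) (pt x mu) = 0 := by
      rw [hmu.orth x (fun i hi => by rw [Pi.sub_apply, hs i hi, hmu.supp i hi, sub_zero])]
      simp only [Pi.sub_apply, sum_sub_distrib, hsum, hmu.sum, sub_self, zero_mul]
    have hseg : ∀ t : ℚ, ip (pt x (mu + t • (lam - mu))) (pt x (mu + t • (lam - mu))) =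
        ip (pt x mu) (pt x mu) + t ^ 2 * ip (pt x (lam - mu)) (pt x (lam - mu)) := by
      intro t
      rw [pt_add, pt_smul, ip_add_left, ip_add_right, ip_add_right, ip_smul_left, ip_smul_right, ip_smul_right,
        ip_comm (pt x mu) (pt x (lam - mu)), ip_smul_left, horth]
      ring
    have hlam : lam = mu + (1 : ℚ) • (lam - mu) := by
      rw [one_smul, add_sub_cancel]
    by_cases hneg : ∀ i, 0 ≤ mu i
    · refine ⟨T, mu, hmu, hneg, ?_⟩
      have h1 := hseg 1
      rw [← hlam] at h1
      rw [h1]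
      have h2 := ip_self_nonneg (pt x (lam - mu))
      nlinarith
    · push Not at hneg
      obtain ⟨i1, hi1⟩ := hneg
      let N : Finset ι := Finset.univ.filter fun i => mu i < 0
      have hN : N.Nonempty := ⟨i1, by simp [N, hi1]⟩
      obtain ⟨i0, hi0, hmin⟩ := Finset.exists_min_image N (fun i => lam i / (lam i - mu i)) hN
      have hi0' : mu i0 < 0 := by simpa [N] using hi0
      have hpos : ∀ i, mu i < 0 → 0 < lam i - mu i := fun i hi => by linarith [h0 i]
      let th : ℚ := lam i0 / (lam i0 - mu i0)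
      have hth0 : 0 ≤ th := div_nonneg (h0 i0) (hpos i0 hi0').le
      have hth1 : th ≤ 1 := by
        rw [div_le_one (hpos i0 hi0')]
        linarith
      let lam' : ι → ℚ := mu + (1 - th) • (lam - mu)
      have hlam' : ∀ i, lam' i = lam i + th * (mu i - lam i) := by
        intro i
        simp only [lam', Pi.add_apply, Pi.smul_apply, Pi.sub_apply, smul_eq_mul]
        ring
      have hi0T : i0 ∈ T := by
        by_contra hc
        rw [hmu.supp i0 hc] at hi0'
        exact lt_irrefl _ hi0'
      have h0' : ∀ i, 0 ≤ lam' i := by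
        intro i
        rw [hlam']
        by_cases hi : mu i < 0
        · have h1 := hmin i (by simp [N, hi])
          have h2 : th ≤ lam i / (lam i - mu i) := h1
          rw [le_div_iff₀ (hpos i hi)] at h2
          linarith
        · rw [not_lt] at hi
          have := mul_nonneg hth0 hi
          have := mul_nonneg (sub_nonneg.2 hth1) (h0 i)
          nlinarith
      have hi00 : lam' i0 = 0 := by
        rw [hlam']
        have h1 : th * (lam i0 - mu i0) = lam i0 := div_mul_cancel₀ _ (hpos i0 hi0').ne'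
        linarith
      have hs' : ∀ i, i ∉ T.erase i0 → lam' i = 0 := by
        intro i hi
        by_cases h1 : i = i0
        · rw [h1, hi00]
        · have h2 : i ∉ T := fun h => hi (Finset.mem_erase.2 ⟨h1, h⟩)
          rw [hlam', hs i h2, hmu.supp i h2]
          ring
      have hsum' : ∑ i, lam' i = 1 := by
        simp only [hlam', sum_add_distrib, ← mul_sum, sum_sub_distrib, hsum, hmu.sum, sub_self, mul_zero, add_zero]
      obtain ⟨T', nu, h1, h2, h3⟩ := ih (T.erase i0) (by rw [Finset.card_erase_of_mem hi0T]; omega) lam' hs' h0' hsum'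
      refine ⟨T', nu, h1, h2, h3.trans ?_⟩
      have h4 := hseg (1 - th)
      have h5 := hseg 1
      rw [← hlam] at h5
      change ip (pt x lam') (pt x lam') = _ at h4
      rw [h4, h5]
      have h6 := ip_self_nonneg (pt x (lam - mu))
      have h7 : (1 - th) ^ 2 ≤ (1 : ℚ) ^ 2 := by
        apply pow_le_pow_left₀ <;> linarith
      have := mul_le_mul_of_nonneg_right h7 h6
      linarith

/-- **The point of minimal norm.** -/
theorem exists_minNorm [Nonempty ι] : ∃ lam : ι → ℚ, (∀ i, 0 ≤ lam i) ∧ ∑ i, lam i = 1 ∧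
    ∀ i, ip (pt x lam) (pt x lam) ≤ ip (x i) (pt x lam) := by
  classical
  let P : Finset ι → Prop := fun T => ∃ nu : ι → ℚ, Stat x T nu ∧ ∀ i, 0 ≤ nu i
  let val : Finset ι → ℚ := fun T => if h : P T then ip (pt x h.choose) (pt x h.choose) else 0
  have hval : ∀ T nu, Stat x T nu → (∀ i, 0 ≤ nu i) → val T = ip (pt x nu) (pt x nu) := by
    intro T nu h1 h2
    have h : P T := ⟨nu, h1, h2⟩
    simp only [val, dif_pos h]
    exact h.choose_spec.1.norm_eq x h1
  have hne : (Finset.univ.filter P).Nonempty := by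
    obtain ⟨i⟩ := ‹Nonempty ι›
    obtain ⟨T', nu, h1, h2, -⟩ := exists_le x (Finset.univ : Finset ι).card Finset.univ rfl (Pi.single i 1)
      (fun j hj => absurd (mem_univ j) hj) (fun j => by
        by_cases h : j = i
        · rw [h, Pi.single_eq_same]; norm_num
        · rw [Pi.single_eq_of_ne h]) (by simp)
    exact ⟨T', by simpa using ⟨nu, h1, h2⟩⟩
  obtain ⟨T0, hT0, hmin⟩ := Finset.exists_min_image _ val hne
  obtain ⟨lam, h1, h2⟩ : P T0 := by simpa using hT0
  refine ⟨lam, h2, h1.sum, fun i => ?_⟩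
  by_contra hc
  rw [not_le] at hc
  -- move towards `x i`
  set N := ip (pt x lam) (pt x lam) with hN
  set A := ip (x i) (pt x lam) with hA
  set C := ip (x i) (x i) with hC
  have hxi : pt x (Pi.single i 1) = x i := by
    rw [pt, Finset.sum_eq_single i]
    · rw [Pi.single_eq_same, one_smul]
    · intro j _ hj
      rw [Pi.single_eq_of_ne hj, zero_smul]
    · intro h
      exact absurd (mem_univ i) h
  have hq : ∀ t : ℚ, ip (pt x ((1 - t) • lam + t • Pi.single i 1)) (pt x ((1 - t) • lam + t • Pi.single i 1)) =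
      (1 - t) ^ 2 * N + 2 * t * (1 - t) * A + t ^ 2 * C := by
    intro t
    rw [pt_add, pt_smul, pt_smul, hxi, ip_add_left, ip_add_right, ip_add_right, ip_smul_left, ip_smul_right,
      ip_smul_left, ip_smul_right, ip_smul_left, ip_smul_right, ip_smul_left, ip_smul_right,
      ip_comm (pt x lam) (x i)]
    ring
  -- choose `t`
  have hC0 : 0 ≤ C := ip_self_nonneg _
  have hN0 : 0 ≤ N := ip_self_nonneg _
  have hD : 0 < N - A := by linarith
  let B : ℚ := N - 2 * A + C + (N - A)
  have hB0 : 0 ≤ N - 2 * A + C := by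
    have h3 := ip_self_nonneg (pt x lam - x i)
    rw [ip_sub_left, ip_sub_right, ip_sub_right, ip_comm (pt x lam) (x i)] at h3
    linarith
  have hB : 0 < B := by
    change 0 < N - 2 * A + C + (N - A)
    linarith
  let t : ℚ := (N - A) / B
  have ht0 : 0 < t := div_pos hD hB
  have ht1 : t ≤ 1 := by
    rw [div_le_one hB]
    change N - A ≤ N - 2 * A + C + (N - A)
    linarith
  have htB : t * B = N - A := div_mul_cancel₀ _ hB.ne'
  have hlt : (1 - t) ^ 2 * N + 2 * t * (1 - t) * A + t ^ 2 * C < N := by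
    have h4 : (1 - t) ^ 2 * N + 2 * t * (1 - t) * A + t ^ 2 * C = N - 2 * t * (N - A) + t ^ 2 * (N - 2 * A + C) := by ring
    have h5 : t ^ 2 * (N - 2 * A + C) ≤ t * (t * B) := by
      have h6 : N - 2 * A + C ≤ B := by
        change N - 2 * A + C ≤ N - 2 * A + C + (N - A)
        linarith
      nlinarith [sq_nonneg t]
    rw [htB] at h5
    rw [h4]
    nlinarith [mul_pos ht0 hD]
  obtain ⟨T', nu, h6, h7, h8⟩ := exists_le x (Finset.univ : Finset ι).card Finset.univ rfl ((1 - t) • lam + t • Pi.single i 1)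
    (fun j hj => absurd (mem_univ j) hj) (fun j => by
      have h9 : 0 ≤ (Pi.single i 1 : ι → ℚ) j := by
        by_cases h : j = i
        · rw [h, Pi.single_eq_same]; norm_num
        · rw [Pi.single_eq_of_ne h]
      have h10 := mul_nonneg (sub_nonneg.2 ht1) (h2 j)
      have h11 := mul_nonneg ht0.le h9
      simp only [Pi.add_apply, Pi.smul_apply, smul_eq_mul]
      linarith) (by
      simp only [Pi.add_apply, Pi.smul_apply, smul_eq_mul, sum_add_distrib, ← mul_sum, h1.sum]
      rw [Finset.sum_pi_single']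
      simp)
  have h9 := hmin T' (by simpa using ⟨nu, h6, h7⟩)
  rw [hval T0 lam h1 h2, hval T' nu h6 h7] at h9
  rw [hq t] at h8
  linarith

end Groth.Agent.ShStab.K831.MinNorm
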