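import Groth.Agent.ShStab.K831.Deg
import Groth.Agent.ShStab.K831.MinNorm
import Groth.Agent.ShStab.K991.Ten

/-!
# Optimal weights and flags of tensors (Kempf), over any field: `K991.Ten.StmtOpt`
-/

set_option autoImplicit false
universe u

namespace Groth.Agent.ShStab.K831.Opt

open K865.TenAct K991.Ten Module
open Groth.Agent.ShStab.K831.MinNorm
open scoped BigOperators

section comb

variable {A R : Type*} [Fintype A] [Fintype R] [DecidableEq R]

/-- The multiplicity vector of a multi-index. -/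
def cq (J : A → R) : R → ℚ := fun j => (cnt J j : ℚ)

theorem ip_cq (J : A → R) (f : R → ℚ) : ip (cq J) f = ∑ a, f (J a) := by
  rw [← sum_cnt_mul J f]
  exact Finset.sum_congr rfl fun j _ => (nsmul_eq_mul _ _).symm

/-- The point of minimal norm for a finite set of multi-indices. -/
theorem exists_mn [DecidableEq A] (S : Finset (A → R)) (hS : S.Nonempty) : ∃ (lam : (A → R) → ℚ) (p : R → ℚ),
    (∀ J, 0 ≤ lam J) ∧ (∀ J, J ∉ S → lam J = 0) ∧ ∑ J, lam J = 1 ∧ (p = ∑ J, lam J • cq J) ∧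
      ∀ J ∈ S, ip p p ≤ ip (cq J) p := by
  obtain ⟨J0, hJ0⟩ := hS
  have : Nonempty S := ⟨⟨J0, hJ0⟩⟩
  obtain ⟨lam, h0, h1, h2⟩ := exists_minNorm (fun J : S => cq (J : A → R))
  have hsum : ∀ {M : Type} [AddCommMonoid M] (f : S → M) (f' : (A → R) → M) (_ : ∀ J : S, f J = f' J)
      (_ : ∀ J, J ∉ S → f' J = 0), ∑ J, f J = ∑ J, f' J := by
    intro M _ f f' hf hf'
    rw [← Finset.sum_subset (Finset.subset_univ S) (fun J _ hJ => hf' J hJ), ← Finset.sum_coe_sort S]
    exact Finset.sum_congr rfl fun J _ => hf J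
  refine ⟨fun J => if h : J ∈ S then lam ⟨J, h⟩ else 0, _, ?_, ?_, ?_, rfl, ?_⟩
  · intro J
    dsimp only
    split_ifs
    · exact h0 _
    · exact le_rfl
  · intro J hJ
    dsimp only
    rw [dif_neg hJ]
  · rw [← h1]
    exact (hsum _ _ (fun J => by rw [dif_pos J.2]) fun J hJ => by rw [dif_neg hJ]).symm
  · have h3 : pt (fun J : S => cq (J : A → R)) lam =
        ∑ J : A → R, (if h : J ∈ S then lam ⟨J, h⟩ else 0) • cq J := by
      rw [pt, ← Finset.sum_subset (Finset.subset_univ S) (fun J _ hJ => by rw [dif_neg hJ, zero_smul]),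
        ← Finset.sum_coe_sort S]
      exact Finset.sum_congr rfl fun J _ => by rw [dif_pos J.2]
    rw [← h3]
    exact fun J hJ => h2 ⟨J, hJ⟩

open Classical in
/-- The chosen coefficients. -/
noncomputable def lamS [DecidableEq A] (S : Finset (A → R)) : (A → R) → ℚ :=
  if h : S.Nonempty then (exists_mn S h).choose else 0

/-- The chosen point. -/
noncomputable def pS [DecidableEq A] (S : Finset (A → R)) : R → ℚ := ∑ J, lamS S J • cq J

theorem lamS_spec [DecidableEq A] (S : Finset (A → R)) (hS : S.Nonempty) :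
    (∀ J, 0 ≤ lamS S J) ∧ (∀ J, J ∉ S → lamS S J = 0) ∧ ∑ J, lamS S J = 1 ∧
      ∀ J ∈ S, ip (pS S) (pS S) ≤ ip (cq J) (pS S) := by
  have h := (exists_mn S hS).choose_spec
  obtain ⟨p, h0, h1, h2, h3, h4⟩ := h
  have e : lamS S = (exists_mn S hS).choose := by
    rw [lamS, dif_pos hS]
  rw [← e] at h0 h1 h2 h3
  refine ⟨h0, h1, h2, ?_⟩
  rw [pS, ← h3]
  exact h4

theorem ip_pS [DecidableEq A] (S : Finset (A → R)) (y : R → ℚ) :
    ip (pS S) y = ∑ J, lamS S J * ip (cq J) y := by
  rw [pS, ip_sum_left]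
  exact Finset.sum_congr rfl fun J _ => ip_smul_left _ _ _

/-- If all points of `S` lie in the half space `⟨·, y⟩ ≥ c`, so does `pS S`. -/
theorem le_ip_pS [DecidableEq A] (S : Finset (A → R)) (hS : S.Nonempty) (y : R → ℚ) (c : ℚ)
    (h : ∀ J ∈ S, c ≤ ip (cq J) y) : c ≤ ip (pS S) y := by
  obtain ⟨h0, h1, h2, -⟩ := lamS_spec S hS
  rw [ip_pS]
  calc c = ∑ J, lamS S J * c := by rw [← Finset.sum_mul, h2, one_mul]
    _ ≤ _ := Finset.sum_le_sum fun J _ => by
      by_cases hJ : J ∈ S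
      · exact mul_le_mul_of_nonneg_left (h J hJ) (h0 J)
      · rw [h1 J hJ, zero_mul, zero_mul]

/-- Equality case. -/
theorem eq_of_lamS_ne_zero [DecidableEq A] (S : Finset (A → R)) (hS : S.Nonempty) (y : R → ℚ) (c : ℚ)
    (h : ∀ J ∈ S, c ≤ ip (cq J) y) (he : ip (pS S) y = c) {J : A → R} (hJ : lamS S J ≠ 0) : ip (cq J) y = c := by
  obtain ⟨h0, h1, h2, -⟩ := lamS_spec S hS
  have h3 : ∑ J, lamS S J * (ip (cq J) y - c) = 0 := by
    simp only [mul_sub, Finset.sum_sub_distrib, ← ip_pS, ← Finset.sum_mul, h2, he]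
    ring
  rw [Finset.sum_eq_zero_iff_of_nonneg] at h3
  · have h4 := h3 J (Finset.mem_univ J)
    rcases mul_eq_zero.1 h4 with h5 | h5
    · exact absurd h5 hJ
    · linarith
  · intro J _
    by_cases hJ : J ∈ S
    · exact mul_nonneg (h0 J) (sub_nonneg.2 (h J hJ))
    · rw [h1 J hJ, zero_mul]

end comb

section weights

variable {A R : Type*} [Fintype A] [Fintype R] {k : Type*} [Field k]

/-- Transport of a lower bound for the weights of the support. -/
theorem le_of_act_ne_zero {q : Matrix R R k} {l w : R → ℚ} (hq : ∀ r r', q r r' ≠ 0 → w r' ≤ l r) {c : ℚ}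
    {t : (A → R) → k} (ht : ∀ J, t J ≠ 0 → c ≤ ∑ a, w (J a)) (J : A → R) (hJ : act q t J ≠ 0) :
    c ≤ ∑ a, l (J a) := by
  classical
  rw [act_apply] at hJ
  obtain ⟨J', -, hJ'⟩ := Finset.exists_ne_zero_of_sum_ne_zero hJ
  have h1 : t J' ≠ 0 := right_ne_zero_of_mul hJ'
  have h2 : ∀ a, q (J a) (J' a) ≠ 0 := fun a => Finset.prod_ne_zero_iff.1 (left_ne_zero_of_mul hJ') a (Finset.mem_univ a)
  exact (ht J' h1).trans (Finset.sum_le_sum fun a _ => hq _ _ (h2 a))

/-- Block matrices commute with the parts. -/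
theorem part_act {I : Type*} {b0 : R → I} {w : R → ℕ} {h : Matrix R R k}
    (hh : IsBlk (fun j => (b0 j, w j)) h) (c : ℕ) (t : (A → R) → k) :
    part w c (act h t) = act h (part w c t) := by
  classical
  funext J
  rw [part, act_apply, act_apply]
  split_ifs with hJ
  · refine Finset.sum_congr rfl fun J' _ => ?_
    by_cases h1 : ∀ a, h (J a) (J' a) ≠ 0
    · have h2 : wt w J' = c := by
        rw [← hJ]
        refine Finset.sum_congr rfl fun a _ => ?_
        by_contra hc
        exact h1 a (hh _ _ fun he => hc (Prod.ext_iff.1 he).2.symm)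
      rw [part, if_pos h2]
    · push Not at h1
      obtain ⟨a, ha⟩ := h1
      rw [Finset.prod_eq_zero (Finset.mem_univ a) ha, zero_mul, zero_mul]
  · refine (Finset.sum_eq_zero fun J' _ => ?_).symm
    by_cases h1 : ∀ a, h (J a) (J' a) ≠ 0
    · have h2 : wt w J' ≠ c := by
        intro h3
        apply hJ
        rw [← h3]
        refine Finset.sum_congr rfl fun a _ => ?_
        by_contra hc
        exact h1 a (hh _ _ fun he => hc (Prod.ext_iff.1 he).2)
      rw [part, if_neg h2, mul_zero]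
    · push Not at h1
      obtain ⟨a, ha⟩ := h1
      rw [Finset.prod_eq_zero (Finset.mem_univ a) ha, zero_mul]

end weights

end Groth.Agent.ShStab.K831.Opt
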