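import Mathlib.LinearAlgebra.Dimension.Finite
import Mathlib.LinearAlgebra.FiniteDimensional.Basic
import Mathlib.LinearAlgebra.Matrix.Determinant.Basic
import Mathlib.LinearAlgebra.Basis.VectorSpace
import Mathlib.LinearAlgebra.Matrix.ToLin
import Mathlib.Data.Rat.Defs
import Mathlib.Order.WithBot
import Mathlib.Tactic

/-!
# Filtrations of vector spaces as valuations, adapted bases

`Fil F V`: functions `v : V → ℚ ∪ {∞}` with `v (x + y) ≥ min (v x) (v y)`, `v (c x) = v x`, `v x = ∞` iff `x = 0`,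
with finitely many values. Two filtrations have a common adapted basis on every finite dimensional subspace.
-/

set_option autoImplicit false
universe u v w

open Module

namespace Groth.Agent.ShStab.K831

/-- A filtration with rational jumps, as a valuation over a trivially valued field. -/
structure Fil (F : Type u) (V : Type v) [Field F] [AddCommGroup V] [Module F V] where
  v : V → WithTop ℚ
  v_zero : v 0 = ⊤
  ne_top : ∀ x, x ≠ 0 → v x ≠ ⊤
  v_add : ∀ x y, min (v x) (v y) ≤ v (x + y)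
  v_smul : ∀ (c : F) (x : V), c ≠ 0 → v (c • x) = v x
  fin : (Set.range v).Finite

namespace Fil

variable {F : Type u} {V : Type v} [Field F] [AddCommGroup V] [Module F V] (φ ψ : Fil F V)

@[ext] theorem ext' {φ ψ : Fil F V} (h : ∀ x, φ.v x = ψ.v x) : φ = ψ := by
  cases φ; cases ψ
  congr
  exact funext h

theorem v_smul' (c : F) (x : V) : φ.v x ≤ φ.v (c • x) := by
  by_cases hc : c = 0
  · rw [hc, zero_smul, φ.v_zero]; exact le_top
  · rw [φ.v_smul c x hc]

theorem v_neg (x : V) : φ.v (-x) = φ.v x := by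
  rw [← neg_one_smul F x, φ.v_smul _ _ (neg_ne_zero.2 one_ne_zero)]

theorem v_sum {ι : Type*} (s : Finset ι) (f : ι → V) (a : WithTop ℚ) (h : ∀ i ∈ s, a ≤ φ.v (f i)) :
    a ≤ φ.v (∑ i ∈ s, f i) := by
  classical
  induction s using Finset.induction_on with
  | empty => rw [Finset.sum_empty, φ.v_zero]; exact le_top
  | insert i s hi ih =>
    rw [Finset.sum_insert hi]
    exact le_trans (le_min (h i (Finset.mem_insert_self i s)) (ih fun j hj => h j (Finset.mem_insert_of_mem hj)))
      (φ.v_add _ _)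

/-- If `v x < v y` then `v (x + y) = v x`. -/
theorem v_add_eq_left {x y : V} (h : φ.v x < φ.v y) : φ.v (x + y) = φ.v x := by
  refine le_antisymm ?_ (le_trans (le_min le_rfl h.le) (φ.v_add x y))
  by_contra hc
  rw [not_le] at hc
  have h1 := φ.v_add (x + y) (-y)
  rw [add_neg_cancel_right, φ.v_neg] at h1
  exact absurd (lt_min hc h) (not_lt.2 h1)

/-- The submodule `{v ≥ a}`. -/
def ge (a : WithTop ℚ) : Submodule F V where
  carrier := {x | a ≤ φ.v x}
  add_mem' {x y} hx hy := le_trans (le_min hx hy) (φ.v_add x y)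
  zero_mem' := by rw [Set.mem_ofPred_eq, φ.v_zero]; exact le_top
  smul_mem' c x hx := le_trans hx (φ.v_smul' c x)

@[simp] theorem mem_ge {a : WithTop ℚ} {x : V} : x ∈ φ.ge a ↔ a ≤ φ.v x := Iff.rfl

/-- The submodule `{v > a}`, `a` finite. -/
def gt (a : WithTop ℚ) (ha : a ≠ ⊤) : Submodule F V where
  carrier := {x | a < φ.v x}
  add_mem' {x y} hx hy := lt_of_lt_of_le (lt_min hx hy) (φ.v_add x y)
  zero_mem' := by rw [Set.mem_ofPred_eq, φ.v_zero]; exact lt_top_iff_ne_top.2 ha
  smul_mem' c x hx := lt_of_lt_of_le hx (φ.v_smul' c x)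

/-- The rational value of a nonzero vector. -/
def val (x : V) : ℚ := (φ.v x).untopD 0

theorem coe_val {x : V} (hx : x ≠ 0) : (φ.val x : WithTop ℚ) = φ.v x := by
  have h := φ.ne_top x hx
  rw [val]
  lift φ.v x to ℚ using h with a
  rfl

/-- Adapted families. -/
def IsAd {ι : Type*} [Fintype ι] (b : ι → V) : Prop :=
  ∀ (c : ι → F) (i : ι), c i ≠ 0 → φ.v (∑ j, c j • b j) ≤ φ.v (b i)

theorem IsAd.linearIndependent {ι : Type*} [Fintype ι] {b : ι → V} (h : φ.IsAd b) (h0 : ∀ i, b i ≠ 0) :
    LinearIndependent F b := by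
  rw [Fintype.linearIndependent_iff]
  intro c hc i
  by_contra hci
  have h1 := h c i hci
  rw [hc, φ.v_zero, top_le_iff] at h1
  exact φ.ne_top _ (h0 i) h1

theorem IsAd.comp {ι κ : Type*} [Fintype ι] [Fintype κ] {b : ι → V} (h : φ.IsAd b) (e : κ ≃ ι) :
    φ.IsAd (b ∘ e) := by
  intro c i hi
  have h1 := h (c ∘ e.symm) (e i) (by simpa using hi)
  rw [← Equiv.sum_comp e] at h1
  simpa using h1

/-- Existence of the minimum of `φ.v` on the nonzero vectors of a nonzero subspace. -/
theorem exists_min (H : Submodule F V) (hH : H ≠ ⊥) :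
    ∃ x ∈ H, x ≠ 0 ∧ ∀ y ∈ H, y ≠ 0 → φ.v x ≤ φ.v y := by
  obtain ⟨x0, hx0, hx0'⟩ := (Submodule.ne_bot_iff H).1 hH
  have h1 : (φ.v '' {x | x ∈ H ∧ x ≠ 0}).Finite := φ.fin.subset (Set.image_subset_range _ _)
  obtain ⟨a, ⟨x, hx, rfl⟩, ha⟩ := Set.exists_min_image _ id h1 ⟨_, x0, ⟨hx0, hx0'⟩, rfl⟩
  exact ⟨x, hx.1, hx.2, fun y hy hy0 => ha _ ⟨y, ⟨hy, hy0⟩, rfl⟩⟩

/-- Existence of the maximum of `ψ.v` on a nonempty set. -/
theorem exists_max (T : Set V) (hT : T.Nonempty) : ∃ x ∈ T, ∀ y ∈ T, ψ.v y ≤ ψ.v x := by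
  have h1 : (ψ.v '' T).Finite := ψ.fin.subset (Set.image_subset_range _ _)
  obtain ⟨a, ⟨x, hx, rfl⟩, ha⟩ := Set.exists_max_image _ id h1 (hT.image _)
  exact ⟨x, hx, fun y hy => ha _ ⟨y, hy, rfl⟩⟩

/-- **Two filtrations have a common adapted basis.** -/
theorem exists_common (n : ℕ) : ∀ (H : Submodule F V) [FiniteDimensional F H], finrank F H = n →
    ∃ b : Fin n → V, Submodule.span F (Set.range b) = H ∧ (∀ i, b i ≠ 0) ∧ φ.IsAd b ∧ ψ.IsAd b := by
  induction n with
  | zero =>
    intro H _ hn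
    refine ⟨Fin.elim0, ?_, fun i => i.elim0, fun c i => i.elim0, fun c i => i.elim0⟩
    rw [Submodule.finrank_eq_zero.1 hn, Set.range_eq_empty, Submodule.span_empty]
  | succ n ih =>
    intro H _ hn
    have hH : H ≠ ⊥ := by
      rintro rfl
      rw [finrank_bot] at hn
      omega
    obtain ⟨x0, hx0, hx00, hmin⟩ := φ.exists_min H hH
    obtain ⟨e, ⟨heH, he0, hea⟩, hmax⟩ := ψ.exists_max {x | x ∈ H ∧ x ≠ 0 ∧ φ.v x = φ.v x0} ⟨x0, hx0, hx00, rfl⟩
    have ha := φ.ne_top x0 hx00
    have heG : e ∉ H ⊓ φ.gt (φ.v x0) ha := by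
      rintro ⟨-, h⟩
      have h' : φ.v x0 < φ.v e := h
      rw [hea] at h'
      exact lt_irrefl _ h'
    obtain ⟨f, hfe, hfG⟩ := Submodule.exists_le_ker_of_notMem heG
    let fH : H →ₗ[F] F := f ∘ₗ H.subtype
    have hsurj : Function.Surjective fH := by
      intro c
      refine ⟨(c / f e) • ⟨e, heH⟩, ?_⟩
      change f ((c / f e) • e) = c
      rw [map_smul, smul_eq_mul, div_mul_cancel₀ _ hfe]
    have hfin : finrank F (LinearMap.ker fH) = n := by
      have h1 := LinearMap.finrank_range_add_finrank_ker fH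
      rw [LinearMap.range_eq_top.2 hsurj, finrank_top, finrank_self, hn] at h1
      omega
    let H' : Submodule F V := (LinearMap.ker fH).map H.subtype
    have hmem' : ∀ x, x ∈ H' ↔ x ∈ H ∧ f x = 0 := by
      intro x
      constructor
      · rintro ⟨y, hy, rfl⟩
        exact ⟨y.2, hy⟩
      · rintro ⟨h1, h2⟩
        exact ⟨⟨x, h1⟩, h2, rfl⟩
    have hfin' : finrank F H' = n := by
      rw [← hfin]
      exact LinearEquiv.finrank_eq (Submodule.equivMapOfInjective _ H.subtype_injective _).symm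
    have : FiniteDimensional F H' := FiniteDimensional.of_injective
      (Submodule.inclusion (fun x hx => ((hmem' x).1 hx).1 : H' ≤ H)) (Submodule.inclusion_injective _)
    obtain ⟨b, hb, hb0, hbφ, hbψ⟩ := ih H' hfin'
    have hbH' : ∀ i, b i ∈ H' := fun i => hb ▸ Submodule.subset_span ⟨i, rfl⟩
    have hsum : ∀ c : Fin n → F, ∑ j, c j • b j ∈ H' := fun c =>
      Submodule.sum_mem _ fun i _ => Submodule.smul_mem _ _ (hbH' i)
    -- the key property
    have key : ∀ x ∈ H, f x ≠ 0 → x ≠ 0 ∧ φ.v x = φ.v x0 := by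
      intro x hx hfx
      have hx0 : x ≠ 0 := by
        rintro rfl
        exact hfx (map_zero f)
      refine ⟨hx0, le_antisymm ?_ (hmin x hx hx0)⟩
      by_contra hc
      rw [not_le] at hc
      exact hfx (hfG ⟨hx, hc⟩)
    have hcomb : ∀ c : Fin (n + 1) → F, c 0 ≠ 0 → (∑ j, c j • (Fin.cons e b : Fin (n + 1) → V) j) ∈ H ∧
        f (∑ j, c j • (Fin.cons e b : Fin (n + 1) → V) j) ≠ 0 := by
      intro c hc0
      rw [Fin.sum_univ_succ]
      simp only [Fin.cons_zero, Fin.cons_succ]
      have h2 := (hmem' _).1 (hsum fun j => c j.succ)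
      refine ⟨H.add_mem (H.smul_mem _ heH) h2.1, ?_⟩
      rw [map_add, h2.2, add_zero, map_smul, smul_eq_mul]
      exact mul_ne_zero hc0 hfe
    refine ⟨Fin.cons e b, ?_, ?_, ?_, ?_⟩
    · apply le_antisymm
      · rw [Submodule.span_le]
        rintro _ ⟨i, rfl⟩
        refine Fin.cases ?_ (fun i => ?_) i
        · exact heH
        · exact ((hmem' _).1 (hbH' i)).1
      · intro x hx
        have h1 : x - (f x / f e) • e ∈ H' := by
          rw [hmem']
          refine ⟨H.sub_mem hx (H.smul_mem _ heH), ?_⟩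
          rw [map_sub, map_smul, smul_eq_mul, div_mul_cancel₀ _ hfe, sub_self]
        have h2 : H' ≤ Submodule.span F (Set.range (Fin.cons e b : Fin (n + 1) → V)) := by
          rw [← hb, Submodule.span_le]
          rintro _ ⟨i, rfl⟩
          exact Submodule.subset_span ⟨i.succ, rfl⟩
        have h3 := Submodule.add_mem _ (h2 h1) (Submodule.smul_mem _ (f x / f e)
          (Submodule.subset_span (⟨0, rfl⟩ : e ∈ Set.range (Fin.cons e b : Fin (n + 1) → V))))
        rwa [sub_add_cancel] at h3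
    · intro i
      refine Fin.cases ?_ (fun i => ?_) i
      · exact he0
      · exact hb0 i
    · intro c i hi
      by_cases hc0 : c 0 = 0
      · rw [Fin.sum_univ_succ, hc0, zero_smul, zero_add]
        simp only [Fin.cons_succ]
        induction i using Fin.cases with
        | zero => exact absurd hc0 hi
        | succ i => exact hbφ (fun j => c j.succ) i hi
      · obtain ⟨h1, h2⟩ := hcomb c hc0
        rw [(key _ h1 h2).2]
        refine Fin.cases ?_ (fun i => ?_) i
        · exact hmin e heH he0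
        · exact hmin _ ((hmem' _).1 (hbH' i)).1 (hb0 i)
    · intro c i hi
      by_cases hc0 : c 0 = 0
      · rw [Fin.sum_univ_succ, hc0, zero_smul, zero_add]
        simp only [Fin.cons_succ]
        induction i using Fin.cases with
        | zero => exact absurd hc0 hi
        | succ i => exact hbψ (fun j => c j.succ) i hi
      · obtain ⟨h1, h2⟩ := hcomb c hc0
        have h3 := hmax _ ⟨h1, key _ h1 h2⟩
        induction i using Fin.cases with
        | zero => exact h3
        | succ i =>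
          refine le_trans ?_ (hbψ (fun j => c j.succ) i hi)
          rw [Fin.sum_univ_succ] at h3 ⊢
          simp only [Fin.cons_zero, Fin.cons_succ] at h3 ⊢
          have h4 := ψ.v_add (c 0 • e + ∑ j, c j.succ • b j) (-(c 0 • e))
          rw [add_neg_cancel_comm, ψ.v_neg, ψ.v_smul _ _ hc0, min_eq_left h3] at h4
          exact h4

end Fil

end Groth.Agent.ShStab.K831
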